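import Mathlib
import Cfsg.Agent.H608.F5Ctrl
import Cfsg.Agent.H626.RealOddD
import Cfsg.Agent.S5233
import Cfsg.Agent.H602.Small.Trace
import Cfsg.Agent.H632.AbelEight
import Cfsg.Agent.H617.AbelRank
import Cfsg.Agent.H619.TameFin
import Cfsg.Agent.H658.Domin
import Cfsg.Agent.S4698
set_option linter.all false

-- part: H608/F5Grp
section
/-!
# The groups `Q₈ × C₂` and `Q₈ * C₄`

`IsGe P z`: `P` is a nonabelian group of order 16, squares and commutators of elements of `P` are
`1` or `z`, and `P` has no elementary abelian subgroup of order 8.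
-/

set_option autoImplicit false

namespace Cfsg.Agent.H608.F5

variable {G : Type*} [Group G]

/-- `P ≅ Q₈ × C₂` or `P ≅ Q₈ * C₄`, with derived subgroup `⟨z⟩`. -/
structure IsGe (P : Subgroup G) (z : G) : Prop where
  card : Nat.card P = 16
  mem : z ∈ P
  ne : z ≠ 1
  sq : ∀ x ∈ P, x * x = 1 ∨ x * x = z
  comm : ∀ x ∈ P, ∀ y ∈ P, x * y = y * x ∨ x * y = z * (y * x)
  na : ∃ x ∈ P, ∃ y ∈ P, x * y ≠ y * x
  no8 : ∀ E : Subgroup G, E ≤ P → Nat.card E = 8 → ∃ x ∈ E, x * x ≠ 1

/-- A subgroup with `a⁻¹ b` in it for all `a`, `b` outside of it has index at most two. -/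
theorem card_le_two_mul [Finite G] {E H : Subgroup G} (hHE : H ≤ E)
    (h : ∀ a ∈ E, ∀ b ∈ E, a ∉ H → b ∉ H → a⁻¹ * b ∈ H) : Nat.card E ≤ 2 * Nat.card H := by
  classical
  have h1 := Subgroup.card_mul_index (H.subgroupOf E)
  rw [Nat.card_congr (Subgroup.subgroupOfEquivOfLe hHE).toEquiv] at h1
  have h2 : (H.subgroupOf E).index ≤ 2 := by
    by_contra hcon
    push Not at hcon
    have h3 : 2 < Nat.card (E ⧸ H.subgroupOf E) := hcon
    have hfin : Finite (E ⧸ H.subgroupOf E) := inferInstance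
    have := Fintype.ofFinite (E ⧸ H.subgroupOf E)
    rw [Nat.card_eq_fintype_card, Fintype.two_lt_card_iff] at h3
    obtain ⟨p, q, r, hpq, hpr, hqr⟩ := h3
    -- one of the three cosets is `H`, the other two coincide
    have key : ∀ p q : E ⧸ H.subgroupOf E, p ≠ QuotientGroup.mk 1 → q ≠ QuotientGroup.mk 1 →
        p = q := by
      intro p q
      induction p using QuotientGroup.induction_on with
      | H x =>
      induction q using QuotientGroup.induction_on with
      | H y =>
      intro hx hy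
      have hx' : (x : G) ∉ H := by
        intro h4
        apply hx
        rw [eq_comm, QuotientGroup.eq, inv_one, one_mul, Subgroup.mem_subgroupOf]
        exact h4
      have hy' : (y : G) ∉ H := by
        intro h4
        apply hy
        rw [eq_comm, QuotientGroup.eq, inv_one, one_mul, Subgroup.mem_subgroupOf]
        exact h4
      rw [QuotientGroup.eq, Subgroup.mem_subgroupOf]
      exact h x x.2 y y.2 hx' hy'
    by_cases hp : p = QuotientGroup.mk 1
    · exact hqr (key q r (fun h5 => hpq (hp.trans h5.symm)) (fun h5 => hpr (hp.trans h5.symm)))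
    · by_cases hq : q = QuotientGroup.mk 1
      · exact hpr (key p r hp (fun h5 => hqr (hq.trans h5.symm)))
      · exact hpq (key p q hp hq)
  rw [← h1]
  nlinarith

variable {P : Subgroup G} {z : G}

theorem IsGe.finite (h : IsGe P z) : Finite P :=
  Nat.finite_of_card_ne_zero (by rw [h.card]; norm_num)

theorem IsGe.zz (h : IsGe P z) : z * z = 1 := by
  rcases h.sq z h.mem with h1 | h1
  · exact h1
  · exact absurd (mul_eq_left.1 h1) h.ne

theorem IsGe.z_inv (h : IsGe P z) : z⁻¹ = z := inv_eq_of_mul_eq_one_left h.zz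

theorem IsGe.z_comm (h : IsGe P z) {y : G} (hy : y ∈ P) : z * y = y * z := by
  rcases h.comm z h.mem y hy with h1 | h1
  · exact h1
  · exfalso
    have h2 : y = y * z := mul_left_cancel h1
    exact h.ne (left_eq_mul.1 h2)

theorem IsGe.pow_four (h : IsGe P z) {x : G} (hx : x ∈ P) : x ^ 4 = 1 := by
  have h1 : x ^ 4 = (x * x) * (x * x) := by simp only [pow_succ, pow_zero, one_mul, mul_assoc]
  rw [h1]
  rcases h.sq x hx with h2 | h2
  · rw [h2, one_mul]
  · rw [h2, h.zz]

/-- `x⁻¹ y` commutes with `t` if neither `x` nor `y` does. -/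
theorem IsGe.comm_inv_mul (h : IsGe P z) {t x y : G} (ht : t ∈ P) (hx : x ∈ P) (hy : y ∈ P)
    (hxt : x * t ≠ t * x) (hyt : y * t ≠ t * y) : x⁻¹ * y * t = t * (x⁻¹ * y) := by
  have h1 := (h.comm x hx t ht).resolve_left hxt
  have h2 := (h.comm y hy t ht).resolve_left hyt
  have h3 : x⁻¹ * (z * t) = t * x⁻¹ := by
    rw [inv_mul_eq_iff_eq_mul, ← mul_assoc, h1, mul_assoc, mul_inv_cancel_right]
  calc x⁻¹ * y * t = x⁻¹ * (z * (t * y)) := by rw [mul_assoc, h2]
    _ = x⁻¹ * (z * t) * y := by group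
    _ = t * (x⁻¹ * y) := by rw [h3, mul_assoc]

variable [Finite G]

/-- The centralizer of an element in a subgroup has index at most two. -/
theorem IsGe.card_le (h : IsGe P z) {E : Subgroup G} (hE : E ≤ P) {t : G} (ht : t ∈ P) :
    Nat.card E ≤ 2 * Nat.card (E ⊓ Subgroup.centralizer ({t} : Set G) : Subgroup G) := by
  refine card_le_two_mul inf_le_left fun x hx y hy hx' hy' => ?_
  refine Subgroup.mem_inf.2 ⟨E.mul_mem (E.inv_mem hx) hy, ?_⟩
  rw [Subgroup.mem_centralizer_singleton_iff]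
  refine h.comm_inv_mul ht (hE hx) (hE hy) (fun h1 => hx' ?_) (fun h1 => hy' ?_)
  · exact Subgroup.mem_inf.2 ⟨hx, Subgroup.mem_centralizer_singleton_iff.2 h1⟩
  · exact Subgroup.mem_inf.2 ⟨hy, Subgroup.mem_centralizer_singleton_iff.2 h1⟩

theorem card_eq_half {E H : Subgroup G} (hHE : H ≤ E) {n : ℕ} (hE : Nat.card E = 2 * n)
    (hle : Nat.card E ≤ 2 * Nat.card H) {x : G} (hx : x ∈ E) (hxH : x ∉ H) : Nat.card H = n := by
  have h1 := Subgroup.card_mul_index (H.subgroupOf E)
  rw [Nat.card_congr (Subgroup.subgroupOfEquivOfLe hHE).toEquiv] at h1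
  have h2 : (H.subgroupOf E).index ≠ 1 := by
    intro h3
    rw [Subgroup.index_eq_one] at h3
    apply hxH
    have h4 : (⟨x, hx⟩ : E) ∈ H.subgroupOf E := by rw [h3]; exact Subgroup.mem_top _
    exact Subgroup.mem_subgroupOf.1 h4
  have h3 : (H.subgroupOf E).index ≠ 0 := Subgroup.index_ne_zero_of_finite
  have h4 : 0 < Nat.card H := Nat.card_pos
  have h5 : (H.subgroupOf E).index ≤ 2 := by
    by_contra h6
    push Not at h6
    have : 2 * Nat.card H < Nat.card H * (H.subgroupOf E).index := by nlinarith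
    omega
  have h6 : (H.subgroupOf E).index = 2 := by omega
  rw [h6] at h1
  omega

/-- The centre of `P`. -/
theorem IsGe.exists_c (h : IsGe P z) : ∃ c ∈ P, (∀ y ∈ P, c * y = y * c) ∧ c ≠ 1 ∧ c ≠ z ∧
    ∀ w ∈ P, (∀ y ∈ P, w * y = y * w) → w = 1 ∨ w = z ∨ w = c ∨ w = c * z := by
  classical
  obtain ⟨x, hx, y, hy, hxy⟩ := h.na
  set W : Subgroup G := P ⊓ Subgroup.centralizer ({x} : Set G) ⊓
    Subgroup.centralizer ({y} : Set G) with hW
  have hWP : W ≤ P := inf_le_left.trans inf_le_left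
  have hA : Nat.card (P ⊓ Subgroup.centralizer ({x} : Set G) : Subgroup G) = 8 :=
    card_eq_half inf_le_left (n := 8) h.card (h.card_le le_rfl hx) hy (fun h1 =>
      hxy (Subgroup.mem_centralizer_singleton_iff.1 (Subgroup.mem_inf.1 h1).2).symm)
  have hW4 : Nat.card W = 4 :=
    card_eq_half inf_le_left (n := 4) hA (h.card_le inf_le_left hy)
      (Subgroup.mem_inf.2 ⟨hx, Subgroup.mem_centralizer_singleton_iff.2 rfl⟩) (fun h1 =>
      hxy (Subgroup.mem_centralizer_singleton_iff.1 (Subgroup.mem_inf.1 h1).2))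
  have hmemW : ∀ {w : G}, w ∈ W ↔ w ∈ P ∧ w * x = x * w ∧ w * y = y * w := by
    intro w
    rw [hW, Subgroup.mem_inf, Subgroup.mem_inf, Subgroup.mem_centralizer_singleton_iff,
      Subgroup.mem_centralizer_singleton_iff, and_assoc]
  -- `W` is abelian
  have hWab : ∀ w ∈ W, ∀ w' ∈ W, w * w' = w' * w := by
    intro w hw w' hw'
    have hc : Nat.card W = 2 ^ 2 := hW4
    have : Fact (Nat.Prime 2) := ⟨Nat.prime_two⟩
    have h1 := (IsPGroup.isMulCommutative_of_card_eq_prime_sq hc)
    exact congrArg Subtype.val (h1.is_comm.comm (⟨w, hw⟩ : W) ⟨w', hw'⟩)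
  -- `W` is central
  have hWc : ∀ w ∈ W, ∀ g ∈ P, w * g = g * w := by
    intro w hw g hg
    obtain ⟨hwP, hwx, hwy⟩ := hmemW.1 hw
    -- adjust `g`
    obtain ⟨g', hg', hgg⟩ : ∃ g' ∈ W, (w * g' = g' * w → w * g = g * w) := by
      by_cases h1 : g * x = x * g <;> by_cases h2 : g * y = y * g
      · exact ⟨g, hmemW.2 ⟨hg, h1, h2⟩, id⟩
      · -- `x⁻¹ g`
        refine ⟨x⁻¹ * g, hmemW.2 ⟨P.mul_mem (P.inv_mem hx) hg, ?_, ?_⟩, fun h3 => ?_⟩
        · rw [mul_assoc, h1, inv_mul_cancel_left, mul_inv_cancel_left]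
        · exact h.comm_inv_mul hy hx hg hxy h2
        · have h4 : w * g = x * (w * (x⁻¹ * g)) := by
            rw [← mul_assoc x, ← hwx]; group
          rw [h4, h3]; group
      · -- `y⁻¹ g`
        refine ⟨y⁻¹ * g, hmemW.2 ⟨P.mul_mem (P.inv_mem hy) hg, ?_, ?_⟩, fun h3 => ?_⟩
        · exact h.comm_inv_mul hx hy hg (Ne.symm hxy) h1
        · rw [mul_assoc, h2, inv_mul_cancel_left, mul_inv_cancel_left]
        · have h4 : w * g = y * (w * (y⁻¹ * g)) := by
            rw [← mul_assoc y, ← hwy]; group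
          rw [h4, h3]; group
      · -- `(x y)⁻¹ g`
        have h5 : (x * y) * x ≠ x * (x * y) := by
          intro h6
          apply hxy
          have h7 : x * (y * x) = x * (x * y) := by rw [← mul_assoc, h6]
          exact (mul_left_cancel h7).symm
        have h6 : (x * y) * y ≠ y * (x * y) := by
          intro h7
          apply hxy
          have h8 : x * y * y = y * x * y := by rw [h7, mul_assoc]
          exact mul_right_cancel h8
        refine ⟨(x * y)⁻¹ * g, hmemW.2 ⟨P.mul_mem (P.inv_mem (P.mul_mem hx hy)) hg, ?_, ?_⟩,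
          fun h3 => ?_⟩
        · exact h.comm_inv_mul hx (P.mul_mem hx hy) hg h5 h1
        · exact h.comm_inv_mul hy (P.mul_mem hx hy) hg h6 h2
        · have h7 : w * (x * y) = x * y * w := by
            rw [← mul_assoc, hwx, mul_assoc, hwy, mul_assoc]
          have h4 : w * g = (x * y) * (w * ((x * y)⁻¹ * g)) := by
            rw [← mul_assoc (x * y), ← h7]; group
          rw [h4, h3]; group
    exact hgg (hWab w hw g' hg')
  have hzW : z ∈ W := hmemW.2 ⟨h.mem, h.z_comm hx, h.z_comm hy⟩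
  -- an element outside of `{1, z}`
  obtain ⟨c, hc, hc1, hcz⟩ : ∃ c ∈ W, c ≠ 1 ∧ c ≠ z := by
    by_contra hcon
    push Not at hcon
    have h1 : (W : Set G) ⊆ (({1, z} : Finset G) : Set G) := by
      intro w hw
      simp only [Finset.coe_insert, Finset.coe_singleton, Set.mem_insert_iff,
        Set.mem_singleton_iff]
      by_cases hw1 : w = 1
      · exact Or.inl hw1
      · exact Or.inr (hcon w hw hw1)
    have h2 := Set.ncard_le_ncard h1 (Finset.finite_toSet _)
    rw [Set.ncard_coe_finset] at h2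
    have h3 : (W : Set G).ncard = 4 := hW4
    have h4 := Finset.card_le_two (a := (1 : G)) (b := z)
    omega
  obtain ⟨hcP, -, -⟩ := hmemW.1 hc
  refine ⟨c, hcP, hWc c hc, hc1, hcz, fun w hw hwc => ?_⟩
  have hwW : w ∈ W := hmemW.2 ⟨hw, hwc x hx, hwc y hy⟩
  by_contra hcon
  push Not at hcon
  obtain ⟨n1, n2, n3, n4⟩ := hcon
  have hcz' : c * z ≠ 1 := by
    intro h1
    apply hcz
    rw [← h.z_inv]
    exact eq_inv_of_mul_eq_one_left h1
  have h1 : (({1, z, c, c * z, w} : Finset G) : Set G) ⊆ (W : Set G) := by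
    intro v hv
    simp only [Finset.coe_insert, Finset.coe_singleton, Set.mem_insert_iff,
      Set.mem_singleton_iff] at hv
    rcases hv with rfl | rfl | rfl | rfl | rfl
    · exact W.one_mem
    · exact hzW
    · exact hc
    · exact W.mul_mem hc hzW
    · exact hwW
  have h2 := Set.ncard_le_ncard h1 (Set.toFinite _)
  rw [Set.ncard_coe_finset] at h2
  have h3 : (W : Set G).ncard = 4 := hW4
  have h4 : ({1, z, c, c * z, w} : Finset G).card = 5 := by
    rw [Finset.card_insert_of_notMem, Finset.card_insert_of_notMem, Finset.card_insert_of_notMem,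
      Finset.card_insert_of_notMem, Finset.card_singleton]
    · rw [Finset.mem_singleton]; exact Ne.symm n4
    · simp only [Finset.mem_insert, Finset.mem_singleton, not_or]
      exact ⟨fun h5 => h.ne (left_eq_mul.1 h5), Ne.symm n3⟩
    · simp only [Finset.mem_insert, Finset.mem_singleton, not_or]
      exact ⟨Ne.symm hcz, fun h5 => hc1 (right_eq_mul.1 h5), Ne.symm n2⟩
    · simp only [Finset.mem_insert, Finset.mem_singleton, not_or]
      exact ⟨Ne.symm h.ne, Ne.symm hc1, Ne.symm hcz', Ne.symm n1⟩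
  omega

/-- An element of odd order centralizing a subgroup of index at most two. -/
theorem IsGe.step (h : IsGe P z) {E : Subgroup G} (hE : E ≤ P) {g : G}
    (hg : ∀ e ∈ E, g * e * g⁻¹ ∈ E) (hodd : ¬ 2 ∣ orderOf g)
    (hle : Nat.card E ≤ 2 * Nat.card (E ⊓ Subgroup.centralizer ({g} : Set G) : Subgroup G)) :
    ∀ e ∈ E, e * g = g * e := by
  intro e he
  by_contra hne
  set F : Subgroup G := E ⊓ Subgroup.centralizer ({g} : Set G) with hF
  have hmemF : ∀ {w : G}, w ∈ F ↔ w ∈ E ∧ w * g = g * w := by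
    intro w
    rw [hF, Subgroup.mem_inf, Subgroup.mem_centralizer_singleton_iff]
  have heF : e ∉ F := fun h1 => hne (hmemF.1 h1).2
  have hFE : F ≤ E := inf_le_left
  -- index two
  have hidx : (F.subgroupOf E).index = 2 := by
    have h1 := Subgroup.card_mul_index (F.subgroupOf E)
    rw [Nat.card_congr (Subgroup.subgroupOfEquivOfLe hFE).toEquiv] at h1
    have h2 : (F.subgroupOf E).index ≠ 1 := by
      intro h3
      rw [Subgroup.index_eq_one] at h3
      apply heF
      have h4 : (⟨e, he⟩ : E) ∈ F.subgroupOf E := by rw [h3]; exact Subgroup.mem_top _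
      exact Subgroup.mem_subgroupOf.1 h4
    have h3 : (F.subgroupOf E).index ≠ 0 := Subgroup.index_ne_zero_of_finite
    have h4 : 0 < Nat.card F := Nat.card_pos
    by_contra h5
    have h6 : 3 ≤ (F.subgroupOf E).index := by omega
    have : 2 * Nat.card F < Nat.card F * (F.subgroupOf E).index := by nlinarith
    omega
  have hgeF : g * e * g⁻¹ ∉ F := by
    intro h1
    apply heF
    have h2 := (hmemF.1 h1).2
    refine hmemF.2 ⟨he, ?_⟩
    have h3 : g * e = g * (g * e * g⁻¹) := by rw [← h2]; group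
    have h4 : e = g * e * g⁻¹ := mul_left_cancel h3
    conv_lhs => rw [h4]
    group
  set f : G := e⁻¹ * (g * e * g⁻¹) with hf
  have hfF : f ∈ F := by
    have h1 := (Subgroup.mul_mem_iff_of_index_two hidx (a := ⟨e⁻¹, E.inv_mem he⟩)
      (b := ⟨g * e * g⁻¹, hg e he⟩)).2 (by
        rw [Subgroup.mem_subgroupOf, Subgroup.mem_subgroupOf]
        exact ⟨fun h1 => absurd (by simpa using F.inv_mem h1) heF, fun h1 => absurd h1 hgeF⟩)
    exact h1
  obtain ⟨hfE, hfg⟩ := hmemF.1 hfF
  have hef : g * e * g⁻¹ = e * f := by rw [hf]; group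
  have hpow : ∀ n : ℕ, g ^ n * e * (g ^ n)⁻¹ = e * f ^ n := by
    intro n
    induction n with
    | zero => simp
    | succ n ih =>
      have h1 : g ^ (n + 1) * e * (g ^ (n + 1))⁻¹ = g * (g ^ n * e * (g ^ n)⁻¹) * g⁻¹ := by
        rw [pow_succ']; group
      have h2 : g * f ^ n * g⁻¹ = f ^ n := by
        have h3 : Commute g (f ^ n) := (show Commute g f from hfg.symm).pow_right n
        rw [h3.eq, mul_inv_cancel_right]
      calc g ^ (n + 1) * e * (g ^ (n + 1))⁻¹ = (g * e * g⁻¹) * (g * f ^ n * g⁻¹) := by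
            rw [h1, ih]; group
        _ = e * f ^ (n + 1) := by rw [h2, hef, pow_succ', mul_assoc]
  have h1 := hpow (orderOf g)
  rw [pow_orderOf_eq_one, one_mul, inv_one, mul_one, left_eq_mul] at h1
  have h2 : f ^ 4 = 1 := h.pow_four (hE hfE)
  have h3 : orderOf f ∣ Nat.gcd (orderOf g) 4 :=
    Nat.dvd_gcd (orderOf_dvd_of_pow_eq_one h1) (orderOf_dvd_of_pow_eq_one h2)
  have h4 : Nat.gcd (orderOf g) 4 = 1 := by
    have h5 : Nat.Coprime (orderOf g) 2 :=
      ((Nat.Prime.coprime_iff_not_dvd Nat.prime_two).2 hodd).symm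
    exact Nat.Coprime.pow_right 2 h5
  rw [h4, Nat.dvd_one, orderOf_eq_one_iff] at h3
  rw [h3, mul_one] at hef
  apply hne
  conv_lhs => rw [← hef]
  group

end Cfsg.Agent.H608.F5
end

-- part: H608/F5Grp2
section
/-!
# The groups `Q₈ × C₂` and `Q₈ * C₄`: automorphisms and fusion systems

* `IsGe.mem_centralizer`: elements of odd order normalizing a subgroup `E` of `P` and fixing a
  noncentral element of `P` contained in `E` centralize `E`;
* `IsGe.isNormal`: `P` is normal in every saturated fusion system on `P`;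
* `IsGe.stab_comm`: the stabilizer of a maximal pair `(P, e)` centralizes the centre of `P`.
-/

set_option autoImplicit false
set_option linter.unusedSectionVars false

open Cfsg

namespace Cfsg.Agent.H608.F5

section grp

variable {G : Type*} [Group G] [Finite G] {P : Subgroup G} {z : G}

theorem IsGe.mem_centralizer (h : IsGe P z) {E : Subgroup G} (hE : E ≤ P) {t : G} (ht : t ∈ E)
    (htn : ¬ ∀ y ∈ P, t * y = y * t) {g : G} (hg : g ∈ Subgroup.normalizer (E : Set G))
    (hgt : g * t = t * g) (hodd : ¬ 2 ∣ orderOf g) : g ∈ Subgroup.centralizer (E : Set G) := by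
  have htP := hE ht
  have hgE : ∀ e ∈ E, g * e * g⁻¹ ∈ E := fun e he => (Subgroup.mem_normalizer_iff.1 hg e).1 he
  set E₁ : Subgroup G := E ⊓ Subgroup.centralizer ({t} : Set G) with hE₁
  have hmem : ∀ {w : G}, w ∈ E₁ ↔ w ∈ E ∧ w * t = t * w := by
    intro w
    rw [hE₁, Subgroup.mem_inf, Subgroup.mem_centralizer_singleton_iff]
  have hE₁E : E₁ ≤ E := inf_le_left
  have hE₁P : E₁ ≤ P := hE₁E.trans hE
  have hgE₁ : ∀ e ∈ E₁, g * e * g⁻¹ ∈ E₁ := by
    intro e he
    obtain ⟨he1, he2⟩ := hmem.1 he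
    refine hmem.2 ⟨hgE e he1, ?_⟩
    have h2 : g⁻¹ * t = t * g⁻¹ := by
      rw [inv_mul_eq_iff_eq_mul, ← mul_assoc, hgt, mul_inv_cancel_right]
    calc g * e * g⁻¹ * t = g * e * (g⁻¹ * t) := by group
      _ = g * (e * t) * g⁻¹ := by rw [h2]; group
      _ = g * t * e * g⁻¹ := by rw [he2]; group
      _ = t * (g * e * g⁻¹) := by rw [hgt]; group
  have ht1 : t ≠ 1 := by
    rintro rfl
    exact htn fun y _ => by rw [one_mul, mul_one]
  have htz : t ≠ z := by
    rintro rfl
    exact htn fun y hy => h.z_comm hy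
  have htE₁ : t ∈ E₁ := hmem.2 ⟨ht, rfl⟩
  -- the order of `E₁`
  have hA : Nat.card (P ⊓ Subgroup.centralizer ({t} : Set G) : Subgroup G) = 8 := by
    push Not at htn
    obtain ⟨y, hy, hty⟩ := htn
    exact card_eq_half inf_le_left (n := 8) h.card (h.card_le le_rfl htP) hy (fun h1 =>
      hty (Subgroup.mem_centralizer_singleton_iff.1 (Subgroup.mem_inf.1 h1).2).symm)
  have hE₁A : E₁ ≤ P ⊓ Subgroup.centralizer ({t} : Set G) := inf_le_inf_right _ hE
  have hdvd : Nat.card E₁ ∣ 8 := by
    rw [← hA]; exact Subgroup.card_dvd_of_le hE₁A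
  -- `g` centralizes `E₁`
  have hmemF : ∀ {w : G}, w ∈ E₁ ⊓ Subgroup.centralizer ({g} : Set G) ↔ w ∈ E₁ ∧ w * g = g * w := by
    intro w
    rw [Subgroup.mem_inf, Subgroup.mem_centralizer_singleton_iff]
  have h1 : ∀ e ∈ E₁, e * g = g * e := by
    refine h.step hE₁P hgE₁ hodd ?_
    have htF : t ∈ E₁ ⊓ Subgroup.centralizer ({g} : Set G) := hmemF.2 ⟨htE₁, hgt.symm⟩
    by_cases h8 : Nat.card E₁ = 8
    · -- `z` is fixed
      obtain ⟨e, he, hee⟩ := h.no8 E₁ hE₁P h8
      have hez := (h.sq e (hE₁P he)).resolve_left hee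
      have hzE : z ∈ E₁ := by rw [← hez]; exact E₁.mul_mem he he
      have hgz : g * z * g⁻¹ = z := by
        have h2 : (g * e * g⁻¹) * (g * e * g⁻¹) = g * z * g⁻¹ := by rw [← hez]; group
        have h3 := h.sq _ (hE₁P (hgE₁ e he))
        rw [h2] at h3
        refine h3.resolve_left fun h4 => h.ne ?_
        rwa [conj_eq_one_iff] at h4
      have hzF : z ∈ E₁ ⊓ Subgroup.centralizer ({g} : Set G) := by
        refine hmemF.2 ⟨hzE, ?_⟩
        conv_lhs => rw [← hgz]
        group
      have h4 : 3 ≤ Nat.card (E₁ ⊓ Subgroup.centralizer ({g} : Set G) : Subgroup G) := by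
        classical
        have h5 : (({1, z, t} : Finset G) : Set G) ⊆
            ((E₁ ⊓ Subgroup.centralizer ({g} : Set G) : Subgroup G) : Set G) := by
          intro v hv
          simp only [Finset.coe_insert, Finset.coe_singleton, Set.mem_insert_iff,
            Set.mem_singleton_iff] at hv
          rcases hv with rfl | rfl | rfl
          · exact Subgroup.one_mem _
          · exact hzF
          · exact htF
        have h6 := Set.ncard_le_ncard h5 (Set.toFinite _)
        rw [Set.ncard_coe_finset, Finset.card_insert_of_notMem, Finset.card_insert_of_notMem,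
          Finset.card_singleton] at h6
        · exact h6
        · rw [Finset.mem_singleton]; exact Ne.symm htz
        · simp only [Finset.mem_insert, Finset.mem_singleton, not_or]
          exact ⟨Ne.symm h.ne, Ne.symm ht1⟩
      have h5 : Nat.card (E₁ ⊓ Subgroup.centralizer ({g} : Set G) : Subgroup G) ∣ 8 := by
        rw [← h8]; exact Subgroup.card_dvd_of_le inf_le_left
      have h6 := Nat.le_of_dvd (by norm_num) h5
      rw [h8]
      generalize Nat.card (E₁ ⊓ Subgroup.centralizer ({g} : Set G) : Subgroup G) = n at *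
      interval_cases n
      · omega
      · omega
      · omega
      · omega
      · omega
      · omega
    · have h2 : 2 ≤ Nat.card (E₁ ⊓ Subgroup.centralizer ({g} : Set G) : Subgroup G) := by
        have h3 : Nontrivial (E₁ ⊓ Subgroup.centralizer ({g} : Set G) : Subgroup G) :=
          ⟨⟨⟨t, htF⟩, 1, fun h4 => ht1 (congrArg Subtype.val h4)⟩⟩
        exact Finite.one_lt_card
      have h3 := Nat.le_of_dvd (by norm_num) hdvd
      have h4 : Nat.card E₁ ≤ 4 := by
        generalize Nat.card E₁ = n at *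
        interval_cases n <;> omega
      omega
  -- `g` centralizes `E`
  have h2 : ∀ e ∈ E, e * g = g * e := by
    refine h.step hE hgE hodd ((h.card_le hE htP).trans (Nat.mul_le_mul_left 2 ?_))
    refine Nat.card_le_card_of_injective (fun w : (E ⊓ Subgroup.centralizer ({t} : Set G) :
      Subgroup G) => (⟨(w : G), ?_⟩ : (E ⊓ Subgroup.centralizer ({g} : Set G) : Subgroup G))) ?_
    · refine Subgroup.mem_inf.2 ⟨hE₁E w.2, ?_⟩
      rw [Subgroup.mem_centralizer_singleton_iff]
      exact h1 w w.2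
    · intro w w' hww
      exact Subtype.ext (congrArg (fun v : (E ⊓ Subgroup.centralizer ({g} : Set G) :
        Subgroup G) => (v : G)) hww)
  rw [Subgroup.mem_centralizer_iff]
  exact h2

/-- Elements normalizing `P` centralize `z`. -/
theorem IsGe.conj_z (h : IsGe P z) {s : G} (hs : s ∈ Subgroup.normalizer (P : Set G)) :
    s * z * s⁻¹ = z := by
  have hsP : ∀ e ∈ P, s * e * s⁻¹ ∈ P := fun e he => (Subgroup.mem_normalizer_iff.1 hs e).1 he
  obtain ⟨x, hx, y, hy, hxy⟩ := h.na
  have h1 := (h.comm x hx y hy).resolve_left hxy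
  have h2 := h.comm _ (hsP x hx) _ (hsP y hy)
  have h3 : s * x * s⁻¹ * (s * y * s⁻¹) = s * (x * y) * s⁻¹ := by group
  have h4 : s * y * s⁻¹ * (s * x * s⁻¹) = s * (y * x) * s⁻¹ := by group
  rw [h3, h4] at h2
  rcases h2 with h2 | h2
  · exact absurd (mul_left_cancel (mul_right_cancel h2)) hxy
  · rw [h1] at h2
    have h5 : s * (z * (y * x)) * s⁻¹ = (s * z * s⁻¹) * (s * (y * x) * s⁻¹) := by group
    rw [h5] at h2
    exact mul_right_cancel h2

theorem IsGe.conj_c (h : IsGe P z) {c : G} (hc : c ∈ P) (hcc : ∀ y ∈ P, c * y = y * c)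
    (hc1 : c ≠ 1) (hcz : c ≠ z)
    (hcen : ∀ w ∈ P, (∀ y ∈ P, w * y = y * w) → w = 1 ∨ w = z ∨ w = c ∨ w = c * z) {s : G}
    (hs : s ∈ Subgroup.normalizer (P : Set G)) : s * c * s⁻¹ = c ∨ s * c * s⁻¹ = c * z := by
  have hsP : ∀ e ∈ P, s * e * s⁻¹ ∈ P := fun e he => (Subgroup.mem_normalizer_iff.1 hs e).1 he
  have hsP' : ∀ e ∈ P, s⁻¹ * e * s ∈ P := by
    intro e he
    have h1 := (Subgroup.mem_normalizer_iff.1 (Subgroup.inv_mem _ hs) e).1 he
    rwa [inv_inv] at h1
  rcases hcen _ (hsP c hc) (fun y hy => by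
    have h1 := hcc _ (hsP' y hy)
    calc s * c * s⁻¹ * y = s * (c * (s⁻¹ * y * s)) * s⁻¹ := by group
      _ = y * (s * c * s⁻¹) := by rw [h1]; group) with h1 | h1 | h1
  · exact absurd (conj_eq_one_iff.1 h1) hc1
  · exfalso
    apply hcz
    have h2 := h.conj_z hs
    rw [← h2] at h1
    exact mul_left_cancel (mul_right_cancel h1)
  · exact h1

theorem IsGe.isPGroup (h : IsGe P z) : IsPGroup 2 P := IsPGroup.of_card (n := 4) (by
  rw [h.card]; norm_num)

open scoped commutatorElement in
theorem IsGe.card_commutator (h : IsGe P z) :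
    commutator P = Subgroup.zpowers (⟨z, h.mem⟩ : P) ∧ Nat.card (commutator P) = 2 := by
  have hord : orderOf (⟨z, h.mem⟩ : P) = 2 := by
    refine orderOf_eq_prime ?_ ?_
    · rw [pow_two]; exact Subtype.ext h.zz
    · intro h1; exact h.ne (congrArg Subtype.val h1)
  have h1 : commutator P = Subgroup.zpowers (⟨z, h.mem⟩ : P) := by
    apply le_antisymm
    · rw [commutator_def, Subgroup.commutator_le]
      rintro ⟨x, hx⟩ - ⟨y, hy⟩ -
      rw [commutatorElement_def]
      rcases h.comm x hx y hy with h2 | h2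
      · have h3 : (⟨x, hx⟩ : P) * ⟨y, hy⟩ * (⟨x, hx⟩)⁻¹ * (⟨y, hy⟩)⁻¹ = 1 := by
          apply Subtype.ext
          change x * y * x⁻¹ * y⁻¹ = 1
          rw [h2]; group
        rw [h3]; exact Subgroup.one_mem _
      · have h3 : (⟨x, hx⟩ : P) * ⟨y, hy⟩ * (⟨x, hx⟩)⁻¹ * (⟨y, hy⟩)⁻¹ = ⟨z, h.mem⟩ := by
          apply Subtype.ext
          change x * y * x⁻¹ * y⁻¹ = z
          rw [h2]; group
        rw [h3]; exact Subgroup.mem_zpowers _
    · rw [Subgroup.zpowers_le, commutator_def]
      obtain ⟨x, hx, y, hy, hxy⟩ := h.na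
      have h2 := (h.comm x hx y hy).resolve_left hxy
      have h3 : (⟨z, h.mem⟩ : P) = ⁅(⟨x, hx⟩ : P), ⟨y, hy⟩⁆ := by
        rw [commutatorElement_def]
        apply Subtype.ext
        change z = x * y * x⁻¹ * y⁻¹
        rw [h2]; group
      rw [h3]
      exact Subgroup.commutator_mem_commutator (Subgroup.mem_top _) (Subgroup.mem_top _)
  refine ⟨h1, ?_⟩
  rw [h1, Nat.card_zpowers, hord]

theorem IsGe.frattini_eq (h : IsGe P z) : frattini P = commutator P := by
  symm
  rw [Cfsg.Agent.H626.commutator_eq_frattini_iff h.isPGroup]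
  intro x
  rw [h.card_commutator.1, pow_two]
  rcases h.sq x x.2 with h1 | h1
  · have h2 : x * x = 1 := Subtype.ext h1
    rw [h2]; exact Subgroup.one_mem _
  · have h2 : x * x = ⟨z, h.mem⟩ := Subtype.ext h1
    rw [h2]; exact Subgroup.mem_zpowers _

/-- A Klein four group in `D₈`. -/
def kl : Subgroup (DihedralGroup 4) where
  carrier := {x | x = DihedralGroup.r 0 ∨ x = DihedralGroup.r 2 ∨ x = DihedralGroup.sr 0 ∨
    x = DihedralGroup.sr 2}
  one_mem' := Or.inl rfl
  mul_mem' := by
    intro a b ha hb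
    simp only [Set.mem_ofPred_eq] at *
    revert a b
    decide
  inv_mem' := by
    intro a ha
    simp only [Set.mem_ofPred_eq] at *
    revert a
    decide

theorem card_kl : Nat.card kl = 4 := by
  have : DecidablePred (· ∈ kl) := fun x => by
    change Decidable (x = DihedralGroup.r 0 ∨ x = DihedralGroup.r 2 ∨ x = DihedralGroup.sr 0 ∨
      x = DihedralGroup.sr 2)
    infer_instance
  have h1 : (kl : Set (DihedralGroup 4)) = (({DihedralGroup.r 0, DihedralGroup.r 2,
      DihedralGroup.sr 0, DihedralGroup.sr 2} : Finset (DihedralGroup 4)) :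
      Set (DihedralGroup 4)) := by
    ext x
    simp only [Finset.coe_insert, Finset.coe_singleton, Set.mem_insert_iff,
      Set.mem_singleton_iff, SetLike.mem_coe]
    rfl
  change (kl : Set (DihedralGroup 4)).ncard = 4
  rw [h1, Set.ncard_coe_finset]
  rfl

theorem sq_kl {x : DihedralGroup 4} (hx : x ∈ kl) : x * x = 1 := by
  have hx' : x = DihedralGroup.r 0 ∨ x = DihedralGroup.r 2 ∨ x = DihedralGroup.sr 0 ∨
    x = DihedralGroup.sr 2 := hx
  rcases hx' with rfl | rfl | rfl | rfl <;> rfl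

theorem IsGe.not_dihedral (h : IsGe P z) : ¬ ∃ (A : Type) (_ : CommGroup A),
    (∀ a : A, a ^ 2 = 1) ∧ Nonempty (P ≃* DihedralGroup 4 × A) := by
  rintro ⟨A, _, hA, ⟨e⟩⟩
  have hfin := h.finite
  have h1 : Nat.card P = Nat.card (DihedralGroup 4) * Nat.card A := by
    rw [Nat.card_congr e.toEquiv, Nat.card_prod]
  rw [h.card, DihedralGroup.nat_card] at h1
  have h2 : Nat.card A = 2 := by omega
  set E : Subgroup G := ((kl.prod (⊤ : Subgroup A)).map e.symm.toMonoidHom).map P.subtype with hE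
  have hEP : E ≤ P := by
    rintro _ ⟨w, -, rfl⟩
    exact w.2
  have hcard : Nat.card E = 8 := by
    have h3 : Nat.card E = Nat.card (kl.prod (⊤ : Subgroup A)) := by
      rw [hE]
      rw [← Nat.card_congr (Subgroup.equivMapOfInjective _ P.subtype
        P.subtype_injective).toEquiv]
      exact (Nat.card_congr (Subgroup.equivMapOfInjective _ e.symm.toMonoidHom
        e.symm.injective).toEquiv).symm
    rw [h3, Nat.card_congr (Subgroup.prodEquiv kl (⊤ : Subgroup A)).toEquiv, Nat.card_prod,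
      card_kl, Subgroup.card_top, h2]
  obtain ⟨x, hx, hxx⟩ := h.no8 E hEP hcard
  obtain ⟨w, ⟨⟨d, b⟩, ⟨hd, -⟩, rfl⟩, rfl⟩ := hx
  apply hxx
  change ((e.symm (d, b) * e.symm (d, b) : P) : G) = 1
  rw [← map_mul, Prod.mk_mul_mk, sq_kl hd, ← pow_two, hA, ← Prod.one_eq_mk, map_one]
  rfl

/-- `P` is normal in every saturated fusion system on `P`. -/
theorem IsGe.isNormal (h : IsGe P z) (F : FusionSystem P) (hF : F.IsSaturated 2) :
    F.IsNormal P := by
  have : Fact (Nat.Prime 2) := ⟨Nat.prime_two⟩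
  have := h.finite
  refine Cfsg.Agent.S5233.result 2 h.isPGroup F hF P ⟨le_rfl, fun R hR φ hφ x =>
    (F.le_of_mem hφ).2 x⟩ ⟨h.frattini_eq, h.card_commutator.2⟩ (fun _ => h.not_dihedral)
    (fun h2 => absurd rfl h2)

end grp

section stab

open Cfsg.Agent.Blocks.Blau Cfsg.Agent.Blocks.Local Cfsg.Agent.Characters
open Cfsg.Agent.H613.SubSys Cfsg.Agent.H613.SubFus
open Cfsg.Agent.H639 Cfsg.Agent.H649 Cfsg.Agent.H651
open Cfsg.Agent.H645.FusCount (stab mem_stab)

universe u

variable {G : Type u} [Group G] [Finite G] {M : Ideal AlgInt} {B : Set (IrrCharacter G)}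
  {a : BrauerPairIdx G} {z : G}

/-- The stabilizer centralizes the centre of `P`. -/
theorem IsGe.stab_comm (h : IsGe a.1 z) (hM : IsPModular 2 M)
    (hmax : IsMaximalBrauerPair 2 M B a.1 a.2) {c : G} (hc : c ∈ a.1)
    (hcc : ∀ y ∈ a.1, c * y = y * c) (hc1 : c ≠ 1) (hcz : c ≠ z)
    (hcen : ∀ w ∈ a.1, (∀ y ∈ a.1, w * y = y * w) → w = 1 ∨ w = z ∨ w = c ∨ w = c * z) {s : G}
    (hs : s ∈ stab a) : s * c * s⁻¹ = c := by
  have : Fact (Nat.Prime 2) := ⟨Nat.prime_two⟩
  have hconj : ∀ s ∈ stab a, s * c * s⁻¹ = c ∨ s * c * s⁻¹ = c * z := fun s hs =>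
    h.conj_c hc hcc hc1 hcz hcen (stab_le_normalizer hs)
  set T : Subgroup G := stab a ⊓ Subgroup.centralizer ({c} : Set G) with hT
  have hmemT : ∀ {w : G}, w ∈ T ↔ w ∈ stab a ∧ w * c * w⁻¹ = c := by
    intro w
    rw [hT, Subgroup.mem_inf, Subgroup.mem_centralizer_singleton_iff, mul_inv_eq_iff_eq_mul]
  have hTS : T ≤ stab a := inf_le_left
  have hKT : a.1 ⊔ Subgroup.centralizer (a.1 : Set G) ≤ T := by
    refine sup_le (fun x hx => hmemT.2 ⟨self_le_stab hM hmax hx, ?_⟩)
      (fun x hx => hmemT.2 ⟨centralizer_le_stab hM hmax hx, ?_⟩)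
    · rw [← hcc x hx, mul_inv_cancel_right]
    · rw [← Subgroup.mem_centralizer_iff.1 hx c hc, mul_inv_cancel_right]
  have h1 : ¬ 2 ∣ T.relIndex (stab a) := by
    intro h2
    apply not_dvd_relIndex_stab hM hmax
    rw [← Subgroup.relIndex_mul_relIndex _ _ _ hKT hTS]
    exact Dvd.dvd.mul_left h2 _
  have h2 : Nat.card (stab a) ≤ 2 * Nat.card T := by
    refine card_le_two_mul hTS fun x hx y hy hx' hy' => ?_
    have h3 : x * c * x⁻¹ = c * z :=
      (hconj x hx).resolve_left fun h4 => hx' (hmemT.2 ⟨hx, h4⟩)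
    have h4 : y * c * y⁻¹ = c * z :=
      (hconj y hy).resolve_left fun h4 => hy' (hmemT.2 ⟨hy, h4⟩)
    refine hmemT.2 ⟨(stab a).mul_mem ((stab a).inv_mem hx) hy, ?_⟩
    calc x⁻¹ * y * c * (x⁻¹ * y)⁻¹ = x⁻¹ * (y * c * y⁻¹) * x := by group
      _ = x⁻¹ * (x * c * x⁻¹) * x := by rw [h4, h3]
      _ = c := by group
  have h3 : T.relIndex (stab a) = 1 := by
    have h4 := Subgroup.card_mul_index (T.subgroupOf (stab a))
    rw [Nat.card_congr (Subgroup.subgroupOfEquivOfLe hTS).toEquiv] at h4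
    change Nat.card T * T.relIndex (stab a) = _ at h4
    have h5 : 0 < Nat.card T := Nat.card_pos
    have h6 : T.relIndex (stab a) ≤ 2 := by
      by_contra h7
      push Not at h7
      have : 2 * Nat.card T < Nat.card T * T.relIndex (stab a) := by nlinarith
      omega
    have h7 : 0 < Nat.card (stab a) := Nat.card_pos
    have h8 : T.relIndex (stab a) ≠ 0 := by
      intro h9
      rw [h9, mul_zero] at h4
      omega
    have h9 : T.relIndex (stab a) ≠ 2 := fun h10 => h1 (by rw [h10])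
    omega
  exact (hmemT.1 (Subgroup.relIndex_eq_one.1 h3 hs)).2

end stab

end Cfsg.Agent.H608.F5
end

-- part: H608/F5Loc
section
/-!
# The ranks of the local blocks for the defect groups `Q₈ × C₂` and `Q₈ * C₄`

`a` is a maximal Brauer pair of the 2-block `B` with `IsGe a.1 z`.

* `rank_noncentral`: `l(b_u) = 1` for noncentral `u`;
* `rank_c`: `l(b_c) ≤ 3` for central `c ≠ 1, z`;
* `rank_z`: `l(b_z)` is 1 or 3.
-/

set_option autoImplicit false
set_option linter.unusedSectionVars false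

open Cfsg

namespace Cfsg.Agent.H608.F5

open Cfsg.Agent.Blocks.Blau Cfsg.Agent.Blocks.Local Cfsg.Agent.Characters
open Cfsg.Agent.H613.SubSys Cfsg.Agent.H613.SubFus
open Cfsg.Agent.H639 Cfsg.Agent.H649 Cfsg.Agent.H651
open Cfsg.Agent.H645.FusCount (stab mem_stab)
open Cfsg.Agent.H644 (isMaximalBrauerPair_of_isDefectGroup isDefectGroup_of_isMaximalBrauerPair)
open Cfsg.Agent.H644.CentralQuot (defl blockRank_defl isPBlock_defl)
open Cfsg.Agent.H619.Tame (Cl rep mkCl rep_mem rep_ne isSys_rep IsTm)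

universe u

section small

variable {G : Type u} [Group G] [Finite G] {M : Ideal AlgInt} {B : Set (IrrCharacter G)}

/-- A block with defect groups of order 1, 2 or 4 has at most three Brauer characters. -/
theorem rank_le_three_of_dvd_four (hM : IsPModular 2 M) (hB : IsPBlock M B) {D : Subgroup G}
    (hD : IsDefectGroup 2 M B D) (h4 : Nat.card D ∣ 4) : blockRank 2 B ≤ 3 := by
  have : Fact (Nat.Prime 2) := ⟨Nat.prime_two⟩
  have := isPrime_of_isPModular hM
  have := Fintype.ofFinite G
  obtain ⟨e, he⟩ := exists_pair_of_isDefectGroup hM hB hD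
  have hmax : IsMaximalBrauerPair 2 M B (⟨D, e⟩ : BrauerPairIdx G).1
    (⟨D, e⟩ : BrauerPairIdx G).2 := isMaximalBrauerPair_of_isDefectGroup hM he hD
  have h1 := Cfsg.Agent.H602.Small.pow_blockDefect_eq hM hmax
  have h2 : Nat.card (⟨D, e⟩ : BrauerPairIdx G).1 ≤ 4 := Nat.le_of_dvd (by norm_num) h4
  have h3 : blockDefect 2 B ≤ 2 := by
    by_contra h
    push Not at h
    have := Nat.pow_le_pow_right (show 0 < 2 by norm_num) h
    omega
  have h5 := (Cfsg.Agent.S4698.result 2 M hM B hB _ rfl).1 h3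
  rw [h1] at h5
  have h6 := (isSys_rep hM hmax).card_eq hM hB
  by_cases hD1 : Nat.card D = 1
  · have h7 : Nat.card (⟨D, e⟩ : BrauerPairIdx G).1 = 1 := hD1
    omega
  · -- a nontrivial element
    have h7 : Nontrivial D := by
      rw [← Finite.one_lt_card_iff_nontrivial]
      have : 0 < Nat.card D := Nat.card_pos
      omega
    obtain ⟨u, hu⟩ := exists_ne (1 : D)
    have hu' : (u : G) ≠ 1 := fun h => hu (Subtype.ext h)
    let i : Cl M (⟨D, e⟩ : BrauerPairIdx G) := mkCl M _ (u : G) u.2 hu'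
    have h8 : 1 ≤ blockRank 2 (bel 2 M (⟨D, e⟩ : BrauerPairIdx G) (rep i)).2 :=
      H613.RankPos.one_le_blockRank (Blocks.Basic.isPBlock_nonempty
        (isPBlock_bel hM hmax.1.1 (rep_mem i)))
    have h9 := Finset.single_le_sum (f := fun j : Cl M (⟨D, e⟩ : BrauerPairIdx G) =>
      blockRank 2 (bel 2 M (⟨D, e⟩ : BrauerPairIdx G) (rep j)).2)
      (fun _ _ => Nat.zero_le _) (Finset.mem_univ i)
    omega

/-- A block with defect groups of order eight and a nontrivial central 2-element has one or three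
Brauer characters. -/
theorem rank_of_central (hM : IsPModular 2 M) (hB : IsPBlock M B) {D : Subgroup G}
    (hD : IsDefectGroup 2 M B D) (h8 : Nat.card D = 8) {u : G} (hu : u ∈ D) (hu1 : u ≠ 1)
    (huc : u ∈ Subgroup.center G) : blockRank 2 B = 1 ∨ blockRank 2 B = 3 := by
  have : Fact (Nat.Prime 2) := ⟨Nat.prime_two⟩
  have := isPrime_of_isPModular hM
  have := Fintype.ofFinite G
  have hodd := Cfsg.Agent.H632.AbelEight.odd_rank_of_central hM hB hD h8 hu hu1 huc
  have hle : blockRank 2 B ≤ 3 := by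
    set U : Subgroup G := Subgroup.zpowers u with hU
    have hUc : U ≤ Subgroup.center G := by
      rw [hU, Subgroup.zpowers_le]
      exact huc
    have hUn : U.Normal := ⟨fun n hn g => by
      have h1 := Subgroup.mem_center_iff.1 (hUc hn) g
      rw [h1, mul_inv_cancel_right]
      exact hn⟩
    have hUD : U ≤ D := by
      rw [hU, Subgroup.zpowers_le]
      exact hu
    have hUp : IsPGroup 2 U := (Cfsg.Agent.H641.isPGroup_of_isDefectGroup hD).to_le hUD
    have h2 := Cfsg.Agent.H658.isDefectGroup_defl hM hUc hUp hB hD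
    rw [← blockRank_defl hM hUc hUp hB]
    refine rank_le_three_of_dvd_four hM (isPBlock_defl hM hUc hUp hB) h2.2 ?_
    -- the order of the quotient
    have h3 : Nat.card (D.map (QuotientGroup.mk' U)) = U.relIndex D := by
      rw [← Subgroup.relIndex_ker, QuotientGroup.ker_mk']
    have h5 : Nat.card U * U.relIndex D = 8 := by
      rw [← h8, Subgroup.relIndex, ← Subgroup.card_mul_index (U.subgroupOf D),
        Nat.card_congr (Subgroup.subgroupOfEquivOfLe hUD).toEquiv]
    have h6 : Nat.card U ≠ 1 := by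
      intro h6
      rw [hU, Nat.card_zpowers, orderOf_eq_one_iff] at h6
      exact hu1 h6
    rw [h3]
    have h7 : Nat.card U ∣ 8 := ⟨_, h5.symm⟩
    have h9 : Nat.card U ≤ 8 := Nat.le_of_dvd (by norm_num) h7
    generalize Nat.card U = n at *
    generalize U.relIndex D = k at *
    interval_cases n
    · omega
    · exact absurd rfl h6
    · exact ⟨1, by omega⟩
    · omega
    · exact ⟨2, by omega⟩
    · omega
    · omega
    · omega
    · exact ⟨4, by omega⟩
  obtain ⟨n, hn⟩ := hodd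
  omega

end small

section quot

variable {G : Type u} [Group G] [Finite G] {M : Ideal AlgInt} {B : Set (IrrCharacter G)}
  {a : BrauerPairIdx G}

theorem le_centralizer_zpowers {c : G} (hcc : ∀ y ∈ a.1, c * y = y * c) :
    a.1 ≤ Subgroup.centralizer ((Subgroup.zpowers c : Subgroup G) : Set G) := by
  intro y hy
  rw [H613.SubSys.centralizer_zpowers, Subgroup.mem_centralizer_singleton_iff]
  exact (hcc y hy).symm

/-- The block dominated by a block, for the quotient modulo a central subgroup of a defect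
group. -/
theorem exists_defl_of {C : Type u} [Group C] [Finite C] (hM : IsPModular 2 M)
    {f : Set (IrrCharacter C)} (hf : IsPBlock M f) {D : Subgroup C} (hD : IsDefectGroup 2 M f D)
    {U : Subgroup C} (hUc : U ≤ Subgroup.center C) (hUD : U ≤ D) :
    ∃ (K : Type u) (_ : Group K) (_ : Finite K) (b : Set (IrrCharacter K)) (d : BrauerPairIdx K)
      (ρ : C →* K), IsMaximalBrauerPair 2 M b d.1 d.2 ∧ blockRank 2 b = blockRank 2 f ∧
      Function.Surjective ρ ∧ (∀ x, ρ x = 1 ↔ x ∈ U) ∧ (∀ x, ρ x ∈ d.1 ↔ x ∈ D) := by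
  have : Fact (Nat.Prime 2) := ⟨Nat.prime_two⟩
  have := isPrime_of_isPModular hM
  have hUn : U.Normal := ⟨fun n hn g => by
    have h1 := Subgroup.mem_center_iff.1 (hUc hn) g
    rw [h1, mul_inv_cancel_right]
    exact hn⟩
  have := Fintype.ofFinite C
  have := Fintype.ofFinite (C ⧸ U)
  have hUp : IsPGroup 2 U := (Cfsg.Agent.H641.isPGroup_of_isDefectGroup hD).to_le hUD
  have h3 := Cfsg.Agent.H658.isDefectGroup_defl (U := U) hM hUc hUp hf hD
  have hb := isPBlock_defl (U := U) hM hUc hUp hf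
  obtain ⟨e, he⟩ := exists_pair_of_isDefectGroup hM hb h3.2
  have hmax' := isMaximalBrauerPair_of_isDefectGroup hM he h3.2
  refine ⟨C ⧸ U, inferInstance, inferInstance, defl U f,
    ⟨D.map (QuotientGroup.mk' U), e⟩, QuotientGroup.mk' U, hmax',
    blockRank_defl hM hUc hUp hf, QuotientGroup.mk'_surjective U, fun x => ?_, fun x => ?_⟩
  · rw [QuotientGroup.mk'_apply, QuotientGroup.eq_one_iff]
  · constructor
    · rintro ⟨y, hy, hyx⟩
      have h4 : y⁻¹ * x ∈ U := QuotientGroup.eq.1 hyx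
      have h5 := D.mul_mem hy (hUD h4)
      rwa [mul_inv_cancel_left] at h5
    · intro hx
      exact ⟨x, hx, rfl⟩

/-- The dominated block of the block at a central element of `a.1`. -/
theorem exists_defl (hM : IsPModular 2 M) (hmax : IsMaximalBrauerPair 2 M B a.1 a.2) {c : G}
    (hc : c ∈ a.1) (hcc : ∀ y ∈ a.1, c * y = y * c) :
    ∃ (K : Type u) (_ : Group K) (_ : Finite K) (b : Set (IrrCharacter K)) (d : BrauerPairIdx K)
      (ρ : Subgroup.centralizer ((Subgroup.zpowers c : Subgroup G) : Set G) →* K),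
      IsMaximalBrauerPair 2 M b d.1 d.2 ∧ blockRank 2 b = blockRank 2 (bel 2 M a c).2 ∧
      Function.Surjective ρ ∧ (∀ x, ρ x = 1 ↔ (x : G) ∈ Subgroup.zpowers c) ∧
      (∀ x, ρ x ∈ d.1 ↔ (x : G) ∈ a.1) := by
  have : Fact (Nat.Prime 2) := ⟨Nat.prime_two⟩
  have := isPrime_of_isPModular hM
  have := Fintype.ofFinite G
  have hPC := le_centralizer_zpowers hcc
  obtain ⟨a', h1, h2, -⟩ := H613.LocMono.exists_loc_max hM hmax
    (Q := Subgroup.zpowers c) (f := (bel 2 M a c).2)
    (isBrauerPairOf_bel hM hmax hc) (bel_le hM hmax.1.1 hc) hPC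
  have := Fintype.ofFinite (Subgroup.centralizer ((Subgroup.zpowers c : Subgroup G) : Set G))
  have hD := isDefectGroup_of_isMaximalBrauerPair hM h2
  rw [h1] at hD
  have hf : IsPBlock M (bel 2 M a c).2 := isPBlock_bel hM hmax.1.1 hc
  have hUc : (Subgroup.zpowers c).subgroupOf
      (Subgroup.centralizer ((Subgroup.zpowers c : Subgroup G) : Set G)) ≤ Subgroup.center _ := by
    intro x hx
    rw [Subgroup.mem_center_iff]
    intro g
    exact Subtype.ext (Subgroup.mem_centralizer_iff.1 g.2 x (Subgroup.mem_subgroupOf.1 hx)).symm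
  have hUD : (Subgroup.zpowers c).subgroupOf
      (Subgroup.centralizer ((Subgroup.zpowers c : Subgroup G) : Set G)) ≤
      a.1.subgroupOf (Subgroup.centralizer ((Subgroup.zpowers c : Subgroup G) : Set G)) := by
    intro x hx
    have h3 : Subgroup.zpowers c ≤ a.1 := by rwa [Subgroup.zpowers_le]
    exact h3 hx
  exact exists_defl_of hM hf hD hUc hUD

end quot

end Cfsg.Agent.H608.F5
end
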