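import Mathlib
import Cfsg.Prelude.Def_BlockRank
import Cfsg.Agent.Blocks.CentralizerSum
import Cfsg.Agent.Blocks.Orthogonality
import Cfsg.Agent.Blocks.PPart
import Cfsg.Agent.Blocks.Basic
import Cfsg.Agent.Characters.Core
set_option linter.all false

/-!
# The `p`-regular rank of a set of irreducible characters

`l(B) = blockRank p B` is the dimension of the space spanned by the restrictions of the members of `B`
to the `p`-regular elements.

* `charSpan B`: the span of a set of irreducible characters; `finrank_charSpan`;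
* `cut p x`: restriction to the `p`-section of `x` (extended by zero) as a linear map;
  `cut_mem`: it preserves `charSpan B` for a union of blocks `B`;
* `secMap p x H`: `θ ↦ (y ↦ θ (x y))` on the `p`-regular elements of `H`;
* `card_eq_sum_finrank`: `|B| = ∑ x, dim (secMap x (charSpan B))` over representatives of the classes
  of `p`-elements;
* `finrank_secMap`: for a block `B` and a `p`-element `x`, `dim (secMap x (charSpan B))` is the rank of
  the set of the characters of `C_G(x)` whose block induces `B`;
* `blockRank_union`, `blockRank_eq_sum`: additivity of the rank.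
-/

set_option autoImplicit false
set_option linter.unusedSectionVars false

open Cfsg Cfsg.Agent.Blocks.Basic Cfsg.Agent.Blocks.Local Module
open scoped ComplexConjugate

namespace Cfsg.Agent.H608.BlockRank

universe u

/-- The span of a set of irreducible characters. -/
noncomputable def charSpan {G : Type u} [Group G] (B : Set (IrrCharacter G)) :
    Submodule ℂ (G → ℂ) :=
  Submodule.span ℂ ((fun χ : IrrCharacter G => (χ : G → ℂ)) '' B)

/-- A set of irreducible characters is a union of blocks. -/
def IsUnion {G : Type u} [Group G] (M : Ideal AlgInt) (B : Set (IrrCharacter G)) : Prop :=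
  ∀ χ ψ : IrrCharacter G, SameBlock M (χ : G → ℂ) (ψ : G → ℂ) → χ ∈ B → ψ ∈ B

/-- The `p`-section of `x`. -/
def InSection {G : Type u} [Group G] (p : ℕ) (x g : G) : Prop :=
  ∃ z, IsPPart p g z ∧ IsConj x z

open Classical in
/-- Restriction to the `p`-section of `x`. -/
noncomputable def cut {G : Type u} [Group G] (p : ℕ) (x : G) : (G → ℂ) →ₗ[ℂ] (G → ℂ) where
  toFun θ g := if InSection p x g then θ g else 0
  map_add' θ θ' := by
    funext g
    by_cases h : InSection p x g <;> simp [h]
  map_smul' c θ := by
    funext g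
    by_cases h : InSection p x g <;> simp [h]

theorem cut_of {G : Type u} [Group G] {p : ℕ} {x g : G} (h : InSection p x g) (θ : G → ℂ) :
    cut p x θ g = θ g := by
  classical
  exact if_pos h

theorem cut_of_not {G : Type u} [Group G] {p : ℕ} {x g : G} (h : ¬ InSection p x g) (θ : G → ℂ) :
    cut p x θ g = 0 := by
  classical
  exact if_neg h

open Classical in
/-- `θ ↦ (y ↦ θ (x y))` on the `p`-regular elements of `H`. -/
noncomputable def secMap {G : Type u} [Group G] (p : ℕ) (x : G) (H : Subgroup G) :
    (G → ℂ) →ₗ[ℂ] (H → ℂ) where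
  toFun θ y := if IsPRegular p y then θ (x * (y : G)) else 0
  map_add' θ θ' := by
    funext g
    by_cases h : IsPRegular p g <;> simp [h]
  map_smul' c θ := by
    funext g
    by_cases h : IsPRegular p g <;> simp [h]

theorem secMap_of {G : Type u} [Group G] {p : ℕ} {x : G} {H : Subgroup G} {y : H}
    (h : IsPRegular p y) (θ : G → ℂ) : secMap p x H θ y = θ (x * (y : G)) := by
  classical
  exact if_pos h

theorem secMap_of_not {G : Type u} [Group G] {p : ℕ} {x : G} {H : Subgroup G} {y : H}
    (h : ¬ IsPRegular p y) (θ : G → ℂ) : secMap p x H θ y = 0 := by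
  classical
  exact if_neg h

open Classical in
/-- `pRegularPart` as a linear map. -/
noncomputable def pReg {G : Type u} [Group G] (p : ℕ) : (G → ℂ) →ₗ[ℂ] (G → ℂ) where
  toFun θ y := if IsPRegular p y then θ y else 0
  map_add' θ θ' := by
    funext g
    by_cases h : IsPRegular p g <;> simp [h]
  map_smul' c θ := by
    funext g
    by_cases h : IsPRegular p g <;> simp [h]

theorem pReg_eq {G : Type u} [Group G] (p : ℕ) (θ : G → ℂ) : pReg p θ = pRegularPart p θ := by
  classical
  funext g
  by_cases h : IsPRegular p g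
  · have e1 : pReg p θ g = θ g := if_pos h
    have e2 : pRegularPart p θ g = θ g := if_pos h
    rw [e1, e2]
  · have e1 : pReg p θ g = 0 := if_neg h
    have e2 : pRegularPart p θ g = 0 := if_neg h
    rw [e1, e2]

theorem pReg_of {G : Type u} [Group G] {p : ℕ} {g : G} (h : IsPRegular p g) (θ : G → ℂ) :
    pReg p θ g = θ g := by
  classical
  exact if_pos h

theorem pReg_of_not {G : Type u} [Group G] {p : ℕ} {g : G} (h : ¬ IsPRegular p g) (θ : G → ℂ) :
    pReg p θ g = 0 := by
  classical
  exact if_neg h

theorem blockRank_eq {G : Type u} [Group G] (p : ℕ) (B : Set (IrrCharacter G)) :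
    blockRank p B = finrank ℂ ((charSpan B).map (pReg p)) := by
  unfold blockRank charSpan
  rw [Submodule.map_span, ← Set.image_comp]
  have : (fun χ : IrrCharacter G => pRegularPart p (χ : G → ℂ)) =
      (pReg p ∘ fun χ : IrrCharacter G => (χ : G → ℂ)) := by
    funext χ
    exact (pReg_eq p _).symm
  rw [this]

section

variable {G : Type u} [Group G] [Finite G]

theorem finrank_charSpan (B : Set (IrrCharacter G)) : finrank ℂ (charSpan B) = Nat.card B := by
  classical
  have := Characters.Core.finite_irr (G := G)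
  have : Fintype B := Fintype.ofFinite _
  have h1 : charSpan B = Submodule.span ℂ (Set.range fun χ : B => ((χ : IrrCharacter G) : G → ℂ)) := by
    unfold charSpan
    congr 1
    ext θ
    simp
  have h2 : LinearIndependent ℂ (fun χ : B => ((χ : IrrCharacter G) : G → ℂ)) :=
    (Characters.Core.irr_linearIndependent (G := G)).comp _ Subtype.val_injective
  rw [h1, finrank_span_eq_card h2, Nat.card_eq_fintype_card]

theorem charSpan_isClassFunction {B : Set (IrrCharacter G)} {θ : G → ℂ} (hθ : θ ∈ charSpan B) :
    IsClassFunction G θ := by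
  unfold charSpan at hθ
  induction hθ using Submodule.span_induction with
  | mem θ h =>
    obtain ⟨χ, -, rfl⟩ := h
    exact irr_isClassFunction χ.2
  | zero => exact fun _ _ => rfl
  | add θ θ' _ _ h h' =>
    intro g k
    rw [Pi.add_apply, Pi.add_apply, h, h']
  | smul c θ _ h =>
    intro g k
    rw [Pi.smul_apply, Pi.smul_apply, h]

theorem mem_charSpan_of_classInner [Fintype G] {B : Set (IrrCharacter G)} {θ : G → ℂ}
    (hθ : IsClassFunction G θ)
    (h : ∀ ψ : IrrCharacter G, ψ ∉ B → Cfsg.classInner θ (ψ : G → ℂ) = 0) : θ ∈ charSpan B := by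
  classical
  have := Characters.Core.finite_irr (G := G)
  have : Fintype (IrrCharacter G) := Fintype.ofFinite _
  rw [Characters.Core.classFunction_eq_sum hθ]
  refine Submodule.sum_mem _ fun ψ _ => ?_
  by_cases hψ : ψ ∈ B
  · exact Submodule.smul_mem _ _ (Submodule.subset_span ⟨ψ, hψ, rfl⟩)
  · rw [h ψ hψ, zero_smul]
    exact Submodule.zero_mem _

theorem inSection_conj {p : ℕ} {x g : G} (h : InSection p x g) (c : G) :
    InSection p x (c * g * c⁻¹) := by
  obtain ⟨z, hz, hxz⟩ := h
  exact ⟨c * z * c⁻¹, Blocks.PPart.isPPart_conj hz c, hxz.trans (isConj_iff.2 ⟨c, rfl⟩)⟩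

theorem inSection_conj_iff {p : ℕ} {x g : G} (c : G) :
    InSection p x (c * g * c⁻¹) ↔ InSection p x g := by
  constructor
  · intro h
    have := inSection_conj h c⁻¹
    rwa [inv_inv, show c⁻¹ * (c * g * c⁻¹) * c = g by group] at this
  · exact fun h => inSection_conj h c

theorem cut_isClassFunction {p : ℕ} {x : G} {θ : G → ℂ} (hθ : IsClassFunction G θ) :
    IsClassFunction G (cut p x θ) := by
  intro g c
  by_cases h : InSection p x g
  · rw [cut_of h, cut_of (inSection_conj h c), hθ]
  · rw [cut_of_not h, cut_of_not (fun h' => h ((inSection_conj_iff c).1 h'))]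

/-- Restriction to a `p`-section preserves the span of a union of blocks. -/
theorem cut_mem {p : ℕ} {M : Ideal AlgInt} (hM : IsPModular p M) {B : Set (IrrCharacter G)}
    (hB : IsUnion M B) (x : G) {θ : G → ℂ} (hθ : θ ∈ charSpan B) : cut p x θ ∈ charSpan B := by
  classical
  have := Fact.mk hM.1
  have hMp := isPrime_of_isPModular hM
  have : Fintype G := Fintype.ofFinite G
  have hle : charSpan B ≤ (charSpan B).comap (cut p x) := by
    conv_lhs => unfold charSpan
    rw [Submodule.span_le]
    rintro _ ⟨χ, hχ, rfl⟩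
    change cut p x (χ : G → ℂ) ∈ charSpan B
    refine mem_charSpan_of_classInner (cut_isClassFunction (irr_isClassFunction χ.2)) fun ψ hψ => ?_
    have hne : ψ ∉ blockOf M (χ : G → ℂ) := fun h => hψ (hB χ ψ h hχ)
    have h1 := Blocks.Orthogonality.orthogonal_on_section hM (blockOf M (χ : G → ℂ))
      (S0913.result p M hM _ ⟨χ, rfl⟩) χ ψ (mem_blockOf_self χ) hne x
    rw [finsum_mem_eq_finite_toFinset_sum _ (Set.toFinite _)] at h1
    rw [classInner_def]
    have h2 : ∑ g : G, cut p x (χ : G → ℂ) g * conj ((ψ : G → ℂ) g) = 0 := by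
      rw [← h1]
      symm
      refine Finset.sum_subset_zero_on_sdiff (Finset.subset_univ _) ?_ ?_
      · intro g hg
        have hg' : ¬ InSection p x g := by simpa [InSection] using hg
        rw [cut_of_not hg', zero_mul]
      · intro g hg
        have hg' : InSection p x g := by simpa [InSection] using hg
        rw [cut_of hg']
    rw [h2, mul_zero]
  exact hle hθ

/-- Two elements in the sections of nonconjugate elements. -/
theorem inSection_mul_iff {p : ℕ} [Fact p.Prime] {x x' : G} (hx : ∃ k : ℕ, orderOf x = p ^ k) {y : G}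
    (hxy : Commute x y) (hy : ¬ p ∣ orderOf y) : InSection p x' (x * y) ↔ IsConj x' x := by
  have h1 := Blocks.PPart.isPPart_mul hxy hx hy
  constructor
  · rintro ⟨z, hz, hxz⟩
    rwa [Blocks.PPart.isPPart_unique hz h1] at hxz
  · exact fun h => ⟨x, h1, h⟩

open Classical in
/-- The number of characters in a union of blocks is the sum of the dimensions of the restrictions
to the `p`-sections. -/
theorem card_eq_sum_finrank {p : ℕ} {M : Ideal AlgInt} (hM : IsPModular p M)
    {B : Set (IrrCharacter G)} (hB : IsUnion M B) (X : Finset G)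
    (hX : ∀ x ∈ X, ∃ k : ℕ, orderOf x = p ^ k)
    (hXrep : ∀ g : G, (∃ k : ℕ, orderOf g = p ^ k) → ∃! x, x ∈ X ∧ IsConj g x) :
    Nat.card B = ∑ x ∈ X, finrank ℂ ((charSpan B).map
      (secMap p x (Subgroup.centralizer ({x} : Set G)))) := by
  have := Fact.mk hM.1
  set S := charSpan B with hS
  let Φ : S →ₗ[ℂ] (∀ x : X, ↥(S.map (secMap p (x : G)
      (Subgroup.centralizer ({(x : G)} : Set G))))) :=
    LinearMap.pi fun x => (secMap p (x : G) (Subgroup.centralizer ({(x : G)} : Set G))).submoduleMap S
  have hΦ : ∀ (θ : S) (x : X), ((Φ θ x : ↥(S.map (secMap p (x : G)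
      (Subgroup.centralizer ({(x : G)} : Set G))))) : _ → ℂ) =
      secMap p (x : G) (Subgroup.centralizer ({(x : G)} : Set G)) (θ : G → ℂ) := fun _ _ => rfl
  have hinj : Function.Injective Φ := by
    rw [injective_iff_map_eq_zero]
    intro θ hθ
    apply Subtype.ext
    funext g
    obtain ⟨z, hz⟩ := Blocks.PPart.exists_isPPart p g
    obtain ⟨y, hzy, hcomm, hzk, hyreg⟩ := hz
    obtain ⟨x, ⟨hxX, hzx⟩, -⟩ := hXrep z hzk
    obtain ⟨c, hc⟩ := isConj_iff.1 hzx
    have hcl := charSpan_isClassFunction θ.2
    have hy' : c * y * c⁻¹ ∈ Subgroup.centralizer ({x} : Set G) := by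
      rw [Subgroup.mem_centralizer_singleton_iff, ← hc]
      have h1 := hcomm.eq
      calc c * y * c⁻¹ * (c * z * c⁻¹) = c * (y * z) * c⁻¹ := by group
        _ = c * (z * y) * c⁻¹ := by rw [h1]
        _ = c * z * c⁻¹ * (c * y * c⁻¹) := by group
    have hreg : IsPRegular p (⟨c * y * c⁻¹, hy'⟩ : ↥(Subgroup.centralizer ({x} : Set G))) := by
      unfold IsPRegular
      rw [← Subgroup.orderOf_coe]
      have h1 : orderOf (c * y * c⁻¹) = orderOf y := by
        have := MulEquiv.orderOf_eq (MulAut.conj c) y
        simpa using this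
      rw [h1]
      exact hyreg
    have h2 : secMap p x (Subgroup.centralizer ({x} : Set G)) (θ : G → ℂ) ⟨c * y * c⁻¹, hy'⟩ = 0 := by
      have h3 := hΦ θ ⟨x, hxX⟩
      rw [hθ] at h3
      have h4 := congrFun h3 ⟨c * y * c⁻¹, hy'⟩
      exact h4.symm
    rw [secMap_of hreg] at h2
    have h5 : x * (c * y * c⁻¹) = c * g * c⁻¹ := by
      rw [← hc, ← hzy]; group
    rw [h5, hcl] at h2
    exact h2
  have hsurj : Function.Surjective Φ := by
    intro η
    have hex : ∀ x : X, ∃ θ : G → ℂ, θ ∈ S ∧
        secMap p (x : G) (Subgroup.centralizer ({(x : G)} : Set G)) θ = (η x : _ → ℂ) := by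
      intro x
      exact (Submodule.mem_map.1 (η x).2)
    choose θ hθS hθ using hex
    refine ⟨⟨∑ x : X, cut p (x : G) (θ x), Submodule.sum_mem _ fun x _ =>
      cut_mem hM hB _ (hθS x)⟩, ?_⟩
    funext x
    apply Subtype.ext
    rw [hΦ, ← hθ x]
    change secMap p (x : G) (Subgroup.centralizer ({(x : G)} : Set G))
      (∑ x' : X, cut p (x' : G) (θ x')) = _
    rw [map_sum]
    have h1 : ∀ x' : X, secMap p (x : G) (Subgroup.centralizer ({(x : G)} : Set G))
        (cut p (x' : G) (θ x')) = if x' = x then
          secMap p (x : G) (Subgroup.centralizer ({(x : G)} : Set G)) (θ x) else 0 := by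
      intro x'
      funext y
      by_cases hy : IsPRegular p y
      · have hcomm : Commute (x : G) (y : G) :=
          (Subgroup.mem_centralizer_singleton_iff.1 y.2).symm
        have hyr : ¬ p ∣ orderOf (y : G) := by
          have := hy
          unfold IsPRegular at this
          rwa [← Subgroup.orderOf_coe] at this
        have hiff := inSection_mul_iff (x' := (x' : G)) (hX x x.2) hcomm hyr
        rw [secMap_of hy]
        by_cases h : x' = x
        · subst h
          rw [if_pos rfl, secMap_of hy, cut_of (hiff.2 (IsConj.refl _))]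
        · rw [if_neg h, Pi.zero_apply, cut_of_not]
          intro hin
          have hcon := hiff.1 hin
          obtain ⟨x₀, -, huniq⟩ := hXrep (x' : G) (hX x' x'.2)
          have e1 := huniq (x' : G) ⟨x'.2, IsConj.refl _⟩
          have e2 := huniq (x : G) ⟨x.2, hcon⟩
          exact h (Subtype.ext (e1.trans e2.symm))
      · rw [secMap_of_not hy]
        split_ifs
        · rw [secMap_of_not hy]
        · rfl
    rw [Finset.sum_congr rfl fun x' _ => h1 x', Finset.sum_ite_eq']
    rw [if_pos (Finset.mem_univ _)]
  have e := LinearEquiv.ofBijective Φ ⟨hinj, hsurj⟩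
  rw [← finrank_charSpan, e.finrank_eq, Module.finrank_pi_fintype]
  exact (Finset.sum_coe_sort X (fun x => finrank ℂ ↥(S.map (secMap p x
      (Subgroup.centralizer ({x} : Set G))))))

open scoped ComplexOrder in
/-- Two families of functions with the same Gram matrix span spaces of the same dimension. -/
theorem finrank_span_eq_of_gram {ι κ Y : Type*} [Fintype ι] [Fintype κ] [Fintype Y]
    (f : ι → Y → ℂ) (g : κ → Y → ℂ)
    (h : ∀ y y', ∑ i, f i y * conj (f i y') = ∑ k, g k y * conj (g k y')) :
    finrank ℂ (Submodule.span ℂ (Set.range f)) = finrank ℂ (Submodule.span ℂ (Set.range g)) := by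
  classical
  have h1 : (Matrix.of f).rank = finrank ℂ (Submodule.span ℂ (Set.range f)) :=
    Matrix.rank_eq_finrank_span_row (Matrix.of f)
  have h2 : (Matrix.of g).rank = finrank ℂ (Submodule.span ℂ (Set.range g)) :=
    Matrix.rank_eq_finrank_span_row (Matrix.of g)
  rw [← h1, ← h2, ← Matrix.rank_conjTranspose_mul_self (Matrix.of f),
    ← Matrix.rank_conjTranspose_mul_self (Matrix.of g)]
  congr 1
  ext y y'
  rw [Matrix.mul_apply, Matrix.mul_apply]
  simp only [Matrix.conjTranspose_apply, Matrix.of_apply]
  have := h y' y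
  calc ∑ i, star (f i y) * f i y' = ∑ i, f i y' * conj (f i y) :=
        Finset.sum_congr rfl fun i _ => mul_comm _ _
    _ = ∑ k, g k y' * conj (g k y) := this
    _ = ∑ k, star (g k y) * g k y' := Finset.sum_congr rfl fun i _ => mul_comm _ _

theorem map_charSpan_eq_span_range {K : Type*} (B : Set (IrrCharacter G))
    (T : (G → ℂ) →ₗ[ℂ] (K → ℂ)) : (charSpan B).map T =
      Submodule.span ℂ (Set.range fun χ : B => T ((χ : IrrCharacter G) : G → ℂ)) := by
  unfold charSpan
  rw [Submodule.map_span, ← Set.image_comp]
  congr 1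
  ext θ
  simp

/-- **Brauer's second main theorem, dimension form**: for a block `B` and a `p`-element `x` with
centralizer `H`, the restriction of the span of `B` to the `p`-section of `x` has dimension the rank
of the set `A` of the irreducible characters of `H` whose block induces `B`. -/
theorem finrank_secMap {p : ℕ} {M : Ideal AlgInt} (hM : IsPModular p M)
    {B : Set (IrrCharacter G)} (hB : IsPBlock M B) {x : G} (hx : ∃ k : ℕ, orderOf x = p ^ k)
    {H : Subgroup G} (hH : H = Subgroup.centralizer ({x} : Set G)) {A : Set (IrrCharacter H)}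
    (hA : ∀ ξ : IrrCharacter H, ξ ∈ A ↔ IsInducedBlock M H (blockOf M (ξ : H → ℂ)) B) :
    finrank ℂ ((charSpan B).map (secMap p x H)) = blockRank p A := by
  classical
  have := Fact.mk hM.1
  have := Characters.Core.finite_irr (G := G)
  have := Characters.Core.finite_irr (G := H)
  have : Fintype H := Fintype.ofFinite _
  have : Fintype B := Fintype.ofFinite _
  have : Fintype A := Fintype.ofFinite _
  rw [blockRank_eq, map_charSpan_eq_span_range, map_charSpan_eq_span_range]
  refine finrank_span_eq_of_gram _ _ fun y y' => ?_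
  by_cases hy : IsPRegular p y
  · by_cases hy' : IsPRegular p y'
    · have h := Blocks.CentralizerSum.sum_section hM x hx hH hB hA y y' hy hy'
      rw [finsum_mem_eq_finite_toFinset_sum _ (Set.toFinite _),
        finsum_mem_eq_finite_toFinset_sum _ (Set.toFinite _)] at h
      simp only [secMap_of hy, secMap_of hy', pReg_of hy, pReg_of hy']
      have e1 : ∑ i : B, ((i : IrrCharacter G) : G → ℂ) (x * (y : G)) *
          conj (((i : IrrCharacter G) : G → ℂ) (x * (y' : G))) =
          ∑ ζ ∈ (Set.toFinite B).toFinset, (ζ : G → ℂ) (x * (y : G)) *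
            conj ((ζ : G → ℂ) (x * (y' : G))) := by
        exact (Finset.sum_subtype (Set.toFinite B).toFinset
          (fun ζ => Set.Finite.mem_toFinset _) (fun ζ : IrrCharacter G =>
            (ζ : G → ℂ) (x * (y : G)) * conj ((ζ : G → ℂ) (x * (y' : G))))).symm
      have e2 : ∑ i : A, ((i : IrrCharacter H) : H → ℂ) y *
          conj (((i : IrrCharacter H) : H → ℂ) y') =
          ∑ ζ ∈ (Set.toFinite A).toFinset, (ζ : H → ℂ) y * conj ((ζ : H → ℂ) y') := by
        exact (Finset.sum_subtype (Set.toFinite A).toFinset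
          (fun ζ => Set.Finite.mem_toFinset _) (fun ζ : IrrCharacter H =>
            (ζ : H → ℂ) y * conj ((ζ : H → ℂ) y'))).symm
      rw [e1, e2]
      exact h
    · simp only [secMap_of_not hy', pReg_of_not hy', map_zero, mul_zero, Finset.sum_const_zero]
  · simp only [secMap_of_not hy, pReg_of_not hy, zero_mul, Finset.sum_const_zero]

/-! ### Additivity -/

theorem charSpan_union (B B' : Set (IrrCharacter G)) :
    charSpan (B ∪ B') = charSpan B ⊔ charSpan B' := by
  unfold charSpan
  rw [Set.image_union, Submodule.span_union]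

theorem charSpan_disjoint {B B' : Set (IrrCharacter G)} (h : Disjoint B B') :
    Disjoint (charSpan B) (charSpan B') :=
  (Characters.Core.irr_linearIndependent (G := G)).disjoint_span_image h

theorem inSection_one_iff {p : ℕ} [Fact p.Prime] {g : G} : InSection p 1 g ↔ IsPRegular p g := by
  constructor
  · rintro ⟨z, ⟨y, hzy, -, -, hy⟩, hz⟩
    have : z = 1 := isConj_one_right.1 hz
    rw [this, one_mul] at hzy
    rw [← hzy]
    exact hy
  · intro h
    exact ⟨1, Blocks.PPart.isPPart_of_not_dvd h, IsConj.refl _⟩

theorem cut_one_eq {p : ℕ} [Fact p.Prime] (θ : G → ℂ) : cut p 1 θ = pReg p θ := by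
  funext g
  by_cases h : IsPRegular p g
  · rw [pReg_of h, cut_of (inSection_one_iff.2 h)]
  · rw [pReg_of_not h, cut_of_not (fun h' => h (inSection_one_iff.1 h'))]

/-- The `p`-regular part preserves the span of a union of blocks. -/
theorem map_pReg_le {p : ℕ} {M : Ideal AlgInt} (hM : IsPModular p M) {B : Set (IrrCharacter G)}
    (hB : IsUnion M B) : (charSpan B).map (pReg p) ≤ charSpan B := by
  have := Fact.mk hM.1
  rintro _ ⟨θ, hθ, rfl⟩
  rw [← cut_one_eq]
  exact cut_mem hM hB 1 hθ

/-- The rank is additive over disjoint unions of blocks. -/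
theorem blockRank_union {p : ℕ} {M : Ideal AlgInt} (hM : IsPModular p M)
    {B B' : Set (IrrCharacter G)} (hB : IsUnion M B) (hB' : IsUnion M B') (h : Disjoint B B') :
    blockRank p (B ∪ B') = blockRank p B + blockRank p B' := by
  have : Finite G := inferInstance
  have : Fintype G := Fintype.ofFinite G
  rw [blockRank_eq, blockRank_eq, blockRank_eq, charSpan_union, Submodule.map_sup]
  have h1 := Submodule.finrank_sup_add_finrank_inf_eq ((charSpan B).map (pReg p))
    ((charSpan B').map (pReg p))
  have h2 : (charSpan B).map (pReg p) ⊓ (charSpan B').map (pReg p) = ⊥ := by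
    rw [eq_bot_iff, ← disjoint_iff.1 (charSpan_disjoint h)]
    exact inf_le_inf (map_pReg_le hM hB) (map_pReg_le hM hB')
  rw [h2, finrank_bot, add_zero] at h1
  exact h1

theorem blockRank_empty (p : ℕ) : blockRank p (∅ : Set (IrrCharacter G)) = 0 := by
  rw [blockRank_eq]
  unfold charSpan
  rw [Set.image_empty, Submodule.span_empty, Submodule.map_bot, finrank_bot]

theorem isUnion_of_isPBlock {M : Ideal AlgInt} [M.IsPrime] {B : Set (IrrCharacter G)}
    (hB : IsPBlock M B) : IsUnion M B := fun _ _ h h1 => isPBlock_mem_of_sameBlock hB h1 h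

theorem isUnion_sUnion {M : Ideal AlgInt} [M.IsPrime] {S : Set (Set (IrrCharacter G))}
    (hS : ∀ B ∈ S, IsPBlock M B) : IsUnion M (⋃₀ S) := by
  rintro χ ψ h ⟨B, hBS, hχ⟩
  exact ⟨B, hBS, isUnion_of_isPBlock (hS B hBS) χ ψ h hχ⟩

/-- The rank of a union of blocks is the sum of the ranks. -/
theorem blockRank_sUnion {p : ℕ} {M : Ideal AlgInt} (hM : IsPModular p M)
    (S : Finset (Set (IrrCharacter G))) (hS : ∀ B ∈ S, IsPBlock M B) :
    blockRank p (⋃₀ (S : Set (Set (IrrCharacter G)))) = ∑ B ∈ S, blockRank p B := by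
  classical
  have hMp := isPrime_of_isPModular hM
  induction S using Finset.induction_on with
  | empty => simp [blockRank_empty]
  | insert B S hBS ih =>
    rw [Finset.sum_insert hBS, ← ih fun B' h => hS B' (Finset.mem_insert_of_mem h),
      Finset.coe_insert, Set.sUnion_insert]
    refine blockRank_union hM (isUnion_of_isPBlock (hS B (Finset.mem_insert_self _ _)))
      (isUnion_sUnion fun B' h => hS B' (Finset.mem_insert_of_mem h)) ?_
    rw [Set.disjoint_left]
    rintro χ hχ ⟨B', hB', hχ'⟩
    have h1 := isPBlock_eq_of_mem (hS B (Finset.mem_insert_self _ _))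
      (hS B' (Finset.mem_insert_of_mem hB')) hχ hχ'
    rw [h1] at hBS
    exact hBS hB'

/-- A union of blocks is the union of the blocks contained in it. -/
theorem sUnion_blocks {M : Ideal AlgInt} [M.IsPrime] {A : Set (IrrCharacter G)}
    (hA : IsUnion M A) : ⋃₀ {b | IsPBlock M b ∧ b ⊆ A} = A := by
  ext χ
  constructor
  · rintro ⟨b, ⟨-, hb⟩, hχ⟩
    exact hb hχ
  · intro hχ
    exact ⟨blockOf M (χ : G → ℂ), ⟨isPBlock_blockOf χ, fun ψ hψ => hA χ ψ hψ hχ⟩,
      mem_blockOf_self χ⟩

/-- The rank of a union of blocks is the sum of the ranks of the blocks contained in it. -/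
theorem blockRank_eq_finsum {p : ℕ} {M : Ideal AlgInt} (hM : IsPModular p M)
    {A : Set (IrrCharacter G)} (hA : IsUnion M A) :
    blockRank p A = ∑ᶠ b ∈ {b : Set (IrrCharacter G) | IsPBlock M b ∧ b ⊆ A}, blockRank p b := by
  classical
  have hMp := isPrime_of_isPModular hM
  have := Characters.Core.finite_irr (G := G)
  have hfin : {b : Set (IrrCharacter G) | IsPBlock M b ∧ b ⊆ A}.Finite := Set.toFinite _
  rw [finsum_mem_eq_finite_toFinset_sum _ hfin, ← blockRank_sUnion hM, Set.Finite.coe_toFinset,
    sUnion_blocks hA]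
  intro B hB
  rw [Set.Finite.mem_toFinset] at hB
  exact hB.1

end

end Cfsg.Agent.H608.BlockRank
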