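import Mathlib
import Cfsg.Agent.H608.F5Main
import Cfsg.Agent.H624.FCases
set_option linter.all false

/-!
# Package F5 of S4542

`pkgF5`: 2-blocks with defect group `D` of order 16, `|Z(D)| = 4`, `D / D'` elementary abelian,
without elementary abelian subgroup of order 8.
-/

set_option autoImplicit false
set_option linter.unusedSectionVars false

open Cfsg

namespace Cfsg.Agent.H608.F5

section grp

variable {H : Type*} [Group H] [Finite H]

/-- Groups of order 16 with centre of order four and squares in the derived subgroup. -/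
theorem exists_form (h16 : Nat.card H = 16) (hZ : Nat.card (Subgroup.center H) = 4)
    (hsq : ∀ x : H, x * x ∈ commutator H) :
    ∃ z : H, z ≠ 1 ∧ (∀ x y : H, x * y = y * x ∨ x * y = z * (y * x)) ∧
      (∀ x : H, x * x = 1 ∨ x * x = z) ∧ ∃ x y : H, x * y ≠ y * x := by
  obtain ⟨x, y, hxy⟩ : ∃ x y : H, x * y ≠ y * x := by
    by_contra hcon
    push Not at hcon
    have h1 : Subgroup.center H = ⊤ := by
      rw [eq_top_iff]
      intro x _
      rw [Subgroup.mem_center_iff]
      exact fun y => hcon y x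
    rw [h1, Subgroup.card_top, h16] at hZ
    omega
  set Z := Subgroup.center H with hZdef
  have hZc : ∀ {w : H}, w ∈ Z → ∀ g : H, w * g = g * w := fun hw g =>
    (Subgroup.mem_center_iff.1 hw g).symm
  -- `A = C(x)`
  set A : Subgroup H := Subgroup.centralizer ({x} : Set H) with hA
  have hmemA : ∀ {w : H}, w ∈ A ↔ w * x = x * w := by
    intro w
    rw [hA, Subgroup.mem_centralizer_singleton_iff]
  have hZA : Z ≤ A := fun w hw => hmemA.2 (hZc hw x)
  have hxA : x ∈ A := hmemA.2 rfl
  have hxZ : x ∉ Z := fun h => hxy (hZc h y)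
  have hyA : y ∉ A := fun h => hxy (hmemA.1 h).symm
  have hA8 : Nat.card A = 8 := by
    have h1 : Nat.card Z ∣ Nat.card A := Subgroup.card_dvd_of_le hZA
    have h2 : Nat.card A ∣ 16 := by rw [← h16]; exact Subgroup.card_subgroup_dvd_card A
    have h3 : Nat.card A ≠ 4 := by
      intro h3
      have h4 : Z = A := Subgroup.eq_of_le_of_card_ge hZA (by rw [h3, hZ])
      exact hxZ (h4 ▸ hxA)
    have h5 : Nat.card A ≠ 16 := by
      intro h5
      have h6 : A = ⊤ := Subgroup.eq_top_of_card_eq A (by rw [h5, h16])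
      exact hyA (h6 ▸ Subgroup.mem_top y)
    rw [hZ] at h1
    have h7 := Nat.le_of_dvd (by norm_num) h2
    have h8 : 0 < Nat.card A := Nat.card_pos
    generalize Nat.card A = n at *
    interval_cases n <;> first | rfl | omega
  have hidxA : A.index = 2 := by
    have h1 := Subgroup.card_mul_index A
    rw [hA8, h16] at h1
    omega
  have hidxZ : (Z.subgroupOf A).index = 2 := by
    have h1 := Subgroup.card_mul_index (Z.subgroupOf A)
    rw [Nat.card_congr (Subgroup.subgroupOfEquivOfLe hZA).toEquiv, hZ, hA8] at h1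
    omega
  have hcosA : ∀ w ∈ A, w ∈ Z ∨ x⁻¹ * w ∈ Z := by
    intro w hw
    by_cases h1 : w ∈ Z
    · exact Or.inl h1
    · right
      have h2 := (Subgroup.mul_mem_iff_of_index_two hidxZ (a := ⟨x⁻¹, A.inv_mem hxA⟩)
        (b := ⟨w, hw⟩)).2 (by
          rw [Subgroup.mem_subgroupOf, Subgroup.mem_subgroupOf]
          exact ⟨fun h3 => absurd (by simpa using Z.inv_mem h3) hxZ, fun h3 => absurd h3 h1⟩)
      exact h2
  have hcos : ∀ u : H, ∃ ζ ∈ Z, u = ζ ∨ u = x * ζ ∨ u = y * ζ ∨ u = y * x * ζ := by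
    intro u
    by_cases h1 : u ∈ A
    · rcases hcosA u h1 with h2 | h2
      · exact ⟨u, h2, Or.inl rfl⟩
      · exact ⟨_, h2, Or.inr (Or.inl (by group))⟩
    · have h2 : y⁻¹ * u ∈ A := by
        rw [Subgroup.mul_mem_iff_of_index_two hidxA]
        exact ⟨fun h3 => absurd (by simpa using A.inv_mem h3) hyA, fun h3 => absurd h3 h1⟩
      rcases hcosA _ h2 with h3 | h3
      · exact ⟨_, h3, Or.inr (Or.inr (Or.inl (by group)))⟩
      · exact ⟨_, h3, Or.inr (Or.inr (Or.inr (by group)))⟩
  -- the quotient by the centre is abelian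
  have hidx : Z.index = 4 := by
    have h1 := Subgroup.card_mul_index Z
    rw [hZ, h16] at h1
    omega
  have hq : ∀ u v : H, u * v * u⁻¹ * v⁻¹ ∈ Z := by
    intro u v
    have hc : Nat.card (H ⧸ Z) = 2 ^ 2 := hidx
    have : Fact (Nat.Prime 2) := ⟨Nat.prime_two⟩
    have h1 := IsPGroup.isMulCommutative_of_card_eq_prime_sq hc
    have h2 := h1.is_comm.comm (u : H ⧸ Z) (v : H ⧸ Z)
    rw [← QuotientGroup.eq_one_iff]
    change ((u : H ⧸ Z) * (v : H ⧸ Z)) * (u : H ⧸ Z)⁻¹ * (v : H ⧸ Z)⁻¹ = 1
    rw [h2]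
    group
  obtain ⟨z, hz⟩ : ∃ z : H, z = x * y * x⁻¹ * y⁻¹ := ⟨_, rfl⟩
  have hzZ : z ∈ Z := hz ▸ hq x y
  have hxyz : x * y = z * (y * x) := by rw [hz]; group
  have hz1 : z ≠ 1 := by
    intro h1
    rw [h1, one_mul] at hxyz
    exact hxy hxyz
  have hcomZ : commutator H ≤ Z := by
    rw [commutator_def, Subgroup.commutator_le]
    intro u _ v _
    rw [commutatorElement_def]
    exact hq u v
  have hzz : z * z = 1 := by
    have h1 := hZc (hcomZ (hsq x)) y
    have h2 : x * x * y = z * z * (y * (x * x)) := by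
      calc x * x * y = x * (x * y) := by group
        _ = x * z * (y * x) := by rw [hxyz]; group
        _ = z * (x * y) * x := by rw [← hZc hzZ x]; group
        _ = z * z * (y * (x * x)) := by rw [hxyz]; group
    rw [h1] at h2
    exact (right_eq_mul.1 h2)
  -- the relation
  have hsymm : ∀ {u v : H}, (u * v = v * u ∨ u * v = z * (v * u)) →
      (v * u = u * v ∨ v * u = z * (u * v)) := by
    rintro u v (h1 | h1)
    · exact Or.inl h1.symm
    · right
      rw [h1, ← mul_assoc, hzz, one_mul]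
  have hmul : ∀ {u v w : H}, (u * v = v * u ∨ u * v = z * (v * u)) →
      (u * w = w * u ∨ u * w = z * (w * u)) → (u * (v * w) = v * w * u ∨
        u * (v * w) = z * (v * w * u)) := by
    rintro u v w (h1 | h1) (h2 | h2)
    · left
      rw [← mul_assoc, h1, mul_assoc, h2, mul_assoc]
    · right
      rw [← mul_assoc, h1, mul_assoc, h2, ← mul_assoc, ← hZc hzZ v]
      group
    · right
      calc u * (v * w) = u * v * w := by group
        _ = z * (v * (u * w)) := by rw [h1]; group
        _ = z * (v * w * u) := by rw [h2]; group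
    · left
      calc u * (v * w) = u * v * w := by group
        _ = z * v * (u * w) := by rw [h1]; group
        _ = z * (v * z) * (w * u) := by rw [h2]; group
        _ = z * z * (v * w * u) := by rw [← hZc hzZ v]; group
        _ = v * w * u := by rw [hzz, one_mul]
  have hcen : ∀ {u w : H}, w ∈ Z → (u * w = w * u ∨ u * w = z * (w * u)) := fun hw =>
    Or.inl (hZc hw _).symm
  have hgen : ∀ u : H, (u * x = x * u ∨ u * x = z * (x * u)) →
      (u * y = y * u ∨ u * y = z * (y * u)) → ∀ v : H, u * v = v * u ∨ u * v = z * (v * u) := by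
    intro u hux huy v
    obtain ⟨ζ, hζ, rfl | rfl | rfl | rfl⟩ := hcos v
    · exact hcen hζ
    · exact hmul hux (hcen hζ)
    · exact hmul huy (hcen hζ)
    · exact hmul (hmul huy hux) (hcen hζ)
  have hall : ∀ u v : H, u * v = v * u ∨ u * v = z * (v * u) := by
    have hx := hgen x (Or.inl rfl) (Or.inr hxyz)
    have hy := hgen y (hsymm (Or.inr hxyz)) (Or.inl rfl)
    intro u
    exact hgen u (hsymm (hx u)) (hsymm (hy u))
  have hcom : commutator H ≤ Subgroup.zpowers z := by
    rw [commutator_def, Subgroup.commutator_le]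
    intro u _ v _
    rw [commutatorElement_def]
    rcases hall u v with h1 | h1
    · rw [h1]
      have : v * u * u⁻¹ * v⁻¹ = 1 := by group
      rw [this]; exact Subgroup.one_mem _
    · rw [h1]
      have : z * (v * u) * u⁻¹ * v⁻¹ = z := by group
      rw [this]; exact Subgroup.mem_zpowers _
  exact ⟨z, hz1, hall, fun w => mem_zpowers_of_sq hzz (hcom (hsq w)), x, y, hxy⟩

theorem exists_isGe {G : Type*} [Group G] [Finite G] {D : Subgroup G} (h16 : Nat.card D = 16)
    (hZ : Nat.card (Subgroup.center D) = 4) (hsq : ∀ x : D, x * x ∈ commutator D)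
    (hno : ¬ ∃ Q : Subgroup D, Nat.card Q = 8 ∧ ∀ x ∈ Q, x * x = 1) : ∃ z : G, IsGe D z := by
  obtain ⟨z, hz1, hcom, hs, x, y, hxy⟩ := exists_form h16 hZ hsq
  refine ⟨z, h16, z.2, fun h => hz1 (Subtype.ext h), ?_, ?_, ⟨x, x.2, y, y.2, ?_⟩, ?_⟩
  · intro x hx
    rcases hs ⟨x, hx⟩ with h1 | h1
    · exact Or.inl (congrArg Subtype.val h1)
    · exact Or.inr (congrArg Subtype.val h1)
  · intro x hx y hy
    rcases hcom ⟨x, hx⟩ ⟨y, hy⟩ with h1 | h1
    · exact Or.inl (congrArg Subtype.val h1)
    · exact Or.inr (congrArg Subtype.val h1)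
  · exact fun h1 => hxy (Subtype.ext h1)
  · intro E hE hE8
    by_contra hcon
    push Not at hcon
    refine hno ⟨E.subgroupOf D, ?_, fun x hx => Subtype.ext (hcon x hx)⟩
    rw [Nat.card_congr (Subgroup.subgroupOfEquivOfLe hE).toEquiv, hE8]

end grp

universe u

/-- **Package F5.** -/
theorem pkgF5 {M : Ideal AlgInt} (hM : IsPModular 2 M) : H624.FCases.PkgF5.{u} M := by
  intro G _ _ B D hB hD h16 hZ hsq hno
  have : Fact (Nat.Prime 2) := ⟨Nat.prime_two⟩
  have := Cfsg.Agent.Blocks.Local.isPrime_of_isPModular hM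
  obtain ⟨z, h⟩ := exists_isGe h16 hZ hsq hno
  obtain ⟨e, he⟩ := Cfsg.Agent.H649.exists_pair_of_isDefectGroup hM hB hD
  exact rank_le_three (a := ⟨D, e⟩) h hM
    (Cfsg.Agent.H644.isMaximalBrauerPair_of_isDefectGroup hM he hD)

end Cfsg.Agent.H608.F5
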